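import Mathlib.Data.Nat.Prime.Basic
import Mathlib.Tactic

/-!
# The numerical inequalities
-/

set_option autoImplicit false

namespace H33.SolvLin

theorem le_three_pow_sub_two : ∀ n : ℕ, 3 ≤ n → n ≤ 3 ^ (n - 2) := by
  intro n hn
  induction n, hn using Nat.le_induction with
  | base => norm_num
  | succ n hn ih =>
    have e : n + 1 - 2 = (n - 2) + 1 := by omega
    rw [e, pow_succ]
    omega

theorem sq_le_three_pow : ∀ n : ℕ, 3 ≤ n → n ^ 2 ≤ 3 ^ (n - 1) := by
  intro n hn
  induction n, hn using Nat.le_induction with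
  | base => norm_num
  | succ n hn ih =>
    have e : n + 1 - 1 = (n - 1) + 1 := by omega
    rw [e, pow_succ (n := n - 1)]
    have h1 : 3 * n ≤ n ^ 2 := by nlinarith
    nlinarith

theorem cube_le_three_pow : ∀ n : ℕ, 7 ≤ n → n ^ 3 ≤ 3 ^ (n - 1) := by
  intro n hn
  induction n, hn using Nat.le_induction with
  | base => norm_num
  | succ n hn ih =>
    have e : n + 1 - 1 = (n - 1) + 1 := by omega
    rw [e, pow_succ (n := n - 1)]
    have h1 : 7 * n ≤ n ^ 2 := by nlinarith
    nlinarith [Nat.mul_le_mul_left n h1]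

/-- If a step at most triples the exponent threshold, growth persists. -/
theorem growth (b : ℕ → ℕ) (p e₀ c : ℕ) (h0 : b e₀ + c ≤ p ^ e₀)
    (hstep : ∀ e, e₀ ≤ e → b (e + 1) + c ≤ p * (b e + c)) :
    ∀ e, e₀ ≤ e → b e + c ≤ p ^ e := by
  intro e he
  induction e, he using Nat.le_induction with
  | base => exact h0
  | succ n hn ih =>
    rw [pow_succ, mul_comm]
    exact (hstep n hn).trans (Nat.mul_le_mul_left p ih)

/-- `p ^ (e + e^2) ≤ 3 ^ (p^e - 1)` outside the small cases. -/
theorem affine_bound {p e : ℕ} (hp : 2 ≤ p) (he : 1 ≤ e)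
    (h2 : p = 2 → 4 ≤ e) : p ^ (e + e ^ 2) ≤ 3 ^ (p ^ e - 1) := by
  rcases eq_or_ne p 2 with rfl | hp2
  · rcases eq_or_lt_of_le (h2 rfl) with rfl | h5
    · norm_num
    · have h : e + e ^ 2 + 1 ≤ 2 ^ e := by
        refine growth (fun e => e + e ^ 2) 2 5 1 (by norm_num) (fun n hn => ?_) e h5
        nlinarith
      calc 2 ^ (e + e ^ 2) ≤ 3 ^ (e + e ^ 2) := Nat.pow_le_pow_left (by norm_num) _
        _ ≤ 3 ^ (2 ^ e - 1) := Nat.pow_le_pow_right (by norm_num) (by omega)
  · have hp3 : 3 ≤ p := by omega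
    rcases eq_or_lt_of_le he with rfl | he2
    · simpa using sq_le_three_pow p hp3
    · have h : (p - 2) * (e + e ^ 2) + 1 ≤ p ^ e := by
        refine growth (fun e => (p - 2) * (e + e ^ 2)) p 2 1 ?_ (fun n hn => ?_) e he2
        · obtain ⟨q, rfl⟩ : ∃ q, p = q + 3 := ⟨p - 3, by omega⟩
          rw [show q + 3 - 2 = q + 1 from rfl]
          nlinarith
        · obtain ⟨q, rfl⟩ : ∃ q, p = q + 3 := ⟨p - 3, by omega⟩
          rw [show q + 3 - 2 = q + 1 from rfl]
          nlinarith [Nat.zero_le (q * n), Nat.zero_le (q * n ^ 2), Nat.zero_le q]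
      calc p ^ (e + e ^ 2) ≤ (3 ^ (p - 2)) ^ (e + e ^ 2) :=
            Nat.pow_le_pow_left (le_three_pow_sub_two p hp3) _
        _ = 3 ^ ((p - 2) * (e + e ^ 2)) := (pow_mul _ _ _).symm
        _ ≤ 3 ^ (p ^ e - 1) := Nat.pow_le_pow_right (by norm_num) (by omega)

/-- `p ^ (k (2k+1)) ≤ 3 ^ (p^k - 1)` outside the small symplectic cases. -/
theorem symp_arith {p k : ℕ} (hp : 2 ≤ p) (hp' : p.Prime) (hk : 1 ≤ k)
    (h2 : p = 2 → 6 ≤ k) (h3 : p = 3 → 3 ≤ k) (h5 : p = 5 → 2 ≤ k) :
    p ^ (k * (2 * k + 1)) ≤ 3 ^ (p ^ k - 1) := by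
  rcases eq_or_ne p 2 with rfl | hp2
  · rcases eq_or_lt_of_le (h2 rfl) with rfl | h7
    · norm_num
    · have h : k * (2 * k + 1) + 1 ≤ 2 ^ k := by
        refine growth (fun k => k * (2 * k + 1)) 2 7 1 (by norm_num) (fun n hn => ?_) k h7
        nlinarith
      calc 2 ^ (k * (2 * k + 1)) ≤ 3 ^ (k * (2 * k + 1)) := Nat.pow_le_pow_left (by norm_num) _
        _ ≤ 3 ^ (2 ^ k - 1) := Nat.pow_le_pow_right (by norm_num) (by omega)
  · rcases eq_or_ne p 3 with rfl | hp3
    · have h : k * (2 * k + 1) + 1 ≤ 3 ^ k := by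
        refine growth (fun k => k * (2 * k + 1)) 3 3 1 (by norm_num) (fun n hn => ?_) k (h3 rfl)
        nlinarith
      exact Nat.pow_le_pow_right (by norm_num) (by omega)
    · have h4 : p ≠ 4 := fun h => by subst h; norm_num at hp'
      have hp5 : 5 ≤ p := by omega
      rcases eq_or_lt_of_le hk with rfl | hk2
      · have h6 : p ≠ 6 := fun h => by subst h; norm_num at hp'
        have hp5' : p ≠ 5 := fun h => by
          have := h5 h
          omega
        simpa using cube_le_three_pow p (by omega)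
      · rcases eq_or_ne p 5 with rfl | hp5'
        · have h : 2 * (k * (2 * k + 1)) + 1 ≤ 5 ^ k := by
            refine growth (fun k => 2 * (k * (2 * k + 1))) 5 2 1 (by norm_num) (fun n hn => ?_) k
              hk2
            nlinarith
          calc 5 ^ (k * (2 * k + 1)) ≤ (3 ^ 2) ^ (k * (2 * k + 1)) :=
                Nat.pow_le_pow_left (by norm_num) _
            _ = 3 ^ (2 * (k * (2 * k + 1))) := (pow_mul _ _ _).symm
            _ ≤ 3 ^ (5 ^ k - 1) := Nat.pow_le_pow_right (by norm_num) (by omega)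
        · have h6 : p ≠ 6 := fun h => by subst h; norm_num at hp'
          have hp7 : 7 ≤ p := by omega
          have h : (p - 1) * (k * (2 * k + 1)) + 3 ≤ 3 * p ^ k := by
            refine Nat.le_induction ?_ ?_ k hk
            · obtain ⟨q, rfl⟩ : ∃ q, p = q + 1 := ⟨p - 1, by omega⟩
              rw [show q + 1 - 1 = q from rfl]
              ring_nf
              omega
            · intro n hn ih
              obtain ⟨q, rfl⟩ : ∃ q, p = q + 1 := ⟨p - 1, by omega⟩
              rw [show q + 1 - 1 = q from rfl] at ih ⊢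
              have hq : 6 * (q * (n * (2 * n + 1))) ≤ q * (q * (n * (2 * n + 1))) :=
                Nat.mul_le_mul_right _ (by omega)
              have hn' : q * n ≤ q * (n * n) := Nat.mul_le_mul_left q (Nat.le_mul_self n)
              have hn1 : q * 1 ≤ q * (n * n) := Nat.mul_le_mul_left q (Nat.mul_pos hn hn)
              rw [pow_succ]
              nlinarith
          have hc : (p ^ (k * (2 * k + 1))) ^ 3 ≤ (3 ^ (p ^ k - 1)) ^ 3 :=
            calc (p ^ (k * (2 * k + 1))) ^ 3 = (p ^ 3) ^ (k * (2 * k + 1)) := by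
                  rw [← pow_mul, ← pow_mul, mul_comm]
              _ ≤ (3 ^ (p - 1)) ^ (k * (2 * k + 1)) :=
                  Nat.pow_le_pow_left (cube_le_three_pow p hp7) _
              _ = 3 ^ ((p - 1) * (k * (2 * k + 1))) := (pow_mul _ _ _).symm
              _ ≤ 3 ^ ((p ^ k - 1) * 3) := Nat.pow_le_pow_right (by norm_num) (by omega)
              _ = (3 ^ (p ^ k - 1)) ^ 3 := pow_mul _ _ _
          exact (Nat.pow_le_pow_iff_left (by norm_num)).mp hc

end H33.SolvLin
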