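import Mathlib

/-!
# Abelian normal subgroups of irreducible linear groups

Either the group permutes the parts of a decomposition of the space, or the subalgebra generated
by the abelian normal subgroup is a field.
-/

set_option autoImplicit false

namespace H33.SolvLin

open Module
open scoped IsMulCommutative

variable {K V G : Type} [Field K] [AddCommGroup V] [Module K V] [Group G]
  (ρ : G →* Module.End K V)

/-- Irreducibility, in elementary form. -/
def Irr : Prop :=
  ∀ U : Submodule K V, (∀ g, ∀ v ∈ U, ρ g v ∈ U) → U = ⊥ ∨ U = ⊤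

/-- A decomposition of `V` into parts permuted by the group, given by its projections. -/
structure Blocks (ι : Type) [Fintype ι] where
  sub : ι → Submodule K V
  perm : G →* Equiv.Perm ι
  proj : ι → Module.End K V
  ne_bot : ∀ i, sub i ≠ ⊥
  maps : ∀ g i, ∀ v ∈ sub i, ρ g v ∈ sub (perm g i)
  proj_mem : ∀ i v, proj i v ∈ sub i
  proj_self : ∀ i, ∀ v ∈ sub i, proj i v = v
  proj_other : ∀ i j, i ≠ j → ∀ v ∈ sub i, proj j v = 0
  sum_proj : ∀ v, ∑ i, proj i v = v

theorem rho_inv_left (g : G) : ρ g⁻¹ * ρ g = 1 := by rw [← map_mul, inv_mul_cancel, map_one]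

theorem rho_inv_right (g : G) : ρ g * ρ g⁻¹ = 1 := by rw [← map_mul, mul_inv_cancel, map_one]

theorem rho_apply_inv (g : G) (v : V) : ρ g (ρ g⁻¹ v) = v := by
  rw [← Module.End.mul_apply, rho_inv_right, Module.End.one_apply]

theorem rho_inv_apply (g : G) (v : V) : ρ g⁻¹ (ρ g v) = v := by
  rw [← Module.End.mul_apply, rho_inv_left, Module.End.one_apply]

theorem blocks_or_field [FiniteDimensional K V] [Nontrivial V] (hirr : Irr ρ) (N : Subgroup G)
    [hNn : N.Normal] (hN : ∀ a ∈ N, ∀ b ∈ N, a * b = b * a) :
    (∃ (ι : Type) (_ : Fintype ι), 2 ≤ Fintype.card ι ∧ Nonempty (Blocks ρ ι)) ∨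
    ∃ R : Subalgebra K (Module.End K V), IsField R ∧ R = Algebra.adjoin K (ρ '' (N : Set G)) := by
  classical
  set R := Algebra.adjoin K (ρ '' (N : Set G)) with hR
  haveI hcomm : IsMulCommutative R := Algebra.isMulCommutative_adjoin K (by
    rintro _ ⟨a, ha, rfl⟩ _ ⟨b, hb, rfl⟩
    rw [← map_mul, ← map_mul, hN a ha b hb])
  have hstable : ∀ g, ∀ r ∈ R, ρ g * r * ρ g⁻¹ ∈ R := by
    intro g r hr
    induction hr using Algebra.adjoin_induction with
    | mem x hx =>
      obtain ⟨a, ha, rfl⟩ := hx
      rw [← map_mul, ← map_mul]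
      exact Algebra.subset_adjoin ⟨_, hNn.conj_mem a ha g, rfl⟩
    | algebraMap c =>
      rw [← (Algebra.commutes c (ρ g)), mul_assoc, rho_inv_right, mul_one]
      exact R.algebraMap_mem c
    | add x y _ _ hx hy => rw [mul_add, add_mul]; exact R.add_mem hx hy
    | mul x y _ _ hx hy =>
      have e : ρ g * (x * y) * ρ g⁻¹ = (ρ g * x * ρ g⁻¹) * (ρ g * y * ρ g⁻¹) := by
        simp only [mul_assoc]
        rw [← mul_assoc (ρ g⁻¹) (ρ g), rho_inv_left, one_mul]
      rw [e]
      exact R.mul_mem hx hy
  -- the conjugation automorphisms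
  let σ : G → R → R := fun g r => ⟨ρ g * r * ρ g⁻¹, hstable g r r.2⟩
  have hσv : ∀ g (r : R), ((σ g r : R) : Module.End K V) = ρ g * r * ρ g⁻¹ := fun _ _ => rfl
  have hσmul : ∀ g h r, σ (g * h) r = σ g (σ h r) := fun g h r => Subtype.ext (by
    simp only [hσv, map_mul, mul_inv_rev, mul_assoc])
  have hσone : ∀ r, σ 1 r = r := fun r => Subtype.ext (by simp [hσv])
  have hσswap : ∀ g (r : R) (v : V), (r : Module.End K V) (ρ g v) = ρ g ((σ g⁻¹ r : R).1 v) := by
    intro g r v
    rw [hσv, Module.End.mul_apply, Module.End.mul_apply, inv_inv, rho_apply_inv]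
  haveI : Module.Finite K R := FiniteDimensional.finiteDimensional_submodule (Subalgebra.toSubmodule R)
  haveI : IsArtinianRing R := IsArtinianRing.of_finite K R
  -- nilpotent elements vanish
  haveI : IsReduced R := by
    refine ⟨fun r hr => ?_⟩
    let W : Submodule K V :=
      ⨅ s : {s : R // IsNilpotent s}, LinearMap.ker ((s.1 : R) : Module.End K V)
    have hW : ∀ g, ∀ v ∈ W, ρ g v ∈ W := by
      intro g v hv
      rw [Submodule.mem_iInf] at hv ⊢
      rintro ⟨s, n, hn⟩
      rw [LinearMap.mem_ker, hσswap]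
      have hnil : IsNilpotent (σ g⁻¹ s) := by
        refine ⟨n, ?_⟩
        have hp : ∀ m : ℕ, σ g⁻¹ s ^ m = σ g⁻¹ (s ^ m) := by
          intro m
          induction m with
          | zero => exact Subtype.ext (by simp [hσv, rho_inv_left])
          | succ m ih =>
            rw [pow_succ, ih, pow_succ]
            refine Subtype.ext ?_
            simp only [Subalgebra.coe_mul, hσv, inv_inv, mul_assoc]
            rw [← mul_assoc (ρ g) (ρ g⁻¹), rho_inv_right, one_mul]
        rw [hp, hn]
        exact Subtype.ext (by simp [hσv])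
      have := hv ⟨_, hnil⟩
      rw [LinearMap.mem_ker] at this
      rw [this, map_zero]
    rcases hirr W hW with hb | ht
    · exfalso
      let M : V → Submodule K V := fun v => (Subalgebra.toSubmodule R).map (LinearMap.applyₗ v)
      have key : ∀ d, ∀ v : V, v ≠ 0 → finrank K (M v) ≤ d → ∃ w ≠ 0, w ∈ W := by
        intro d
        induction d using Nat.strong_induction_on with
        | _ d ih =>
          intro v hv hd
          by_cases hall : v ∈ W
          · exact ⟨v, hv, hall⟩
          rw [Submodule.mem_iInf] at hall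
          push Not at hall
          obtain ⟨⟨s, hs⟩, hsv⟩ := hall
          rw [LinearMap.mem_ker] at hsv
          have hle : M ((s : Module.End K V) v) ≤ M v := by
            rintro _ ⟨t, ht, rfl⟩
            exact ⟨t * (s : Module.End K V), R.mul_mem ht s.2, rfl⟩
          have hlt : M ((s : Module.End K V) v) < M v := by
            refine lt_of_le_of_ne hle fun e => hv ?_
            have h1 : v ∈ M v := ⟨1, R.one_mem, rfl⟩
            rw [← e] at h1
            obtain ⟨t, ht, hts⟩ := h1
            have hu : IsUnit (1 - (⟨t, ht⟩ : R) * s) :=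
              ((Commute.all _ _).isNilpotent_mul_left hs).isUnit_one_sub
            obtain ⟨u, hu⟩ := hu
            have h2 : ((1 - (⟨t, ht⟩ : R) * s : R) : Module.End K V) v = 0 := by
              have hts' : t ((s : Module.End K V) v) = v := hts
              show v - t ((s : Module.End K V) v) = 0
              rw [hts', sub_self]
            have h3 : ((↑u⁻¹ * (1 - (⟨t, ht⟩ : R) * s) : R) : Module.End K V) v = 0 := by
              rw [Subalgebra.coe_mul, Module.End.mul_apply, h2, map_zero]
            rwa [← hu, Units.inv_mul, Subalgebra.coe_one, Module.End.one_apply] at h3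
          have := Submodule.finrank_lt_finrank_of_lt hlt
          exact ih (finrank K (M ((s : Module.End K V) v))) (by omega) _ hsv le_rfl
      obtain ⟨v, hv⟩ := exists_ne (0 : V)
      obtain ⟨w, hw, hwW⟩ := key _ v hv le_rfl
      rw [hb, Submodule.mem_bot] at hwW
      exact hw hwW
    · refine Subtype.ext (LinearMap.ext fun v => ?_)
      have hv : v ∈ W := ht ▸ Submodule.mem_top
      rw [Submodule.mem_iInf] at hv
      exact hv ⟨r, hr⟩
  haveI : Nontrivial (Module.End K V) := by
    obtain ⟨v, hv⟩ := exists_ne (0 : V)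
    exact ⟨1, 0, fun e => hv (LinearMap.congr_fun e v)⟩
  by_cases hloc : IsLocalRing R
  · exact Or.inr ⟨R, IsArtinianRing.isField_of_isReduced_of_isLocalRing R, rfl⟩
  left
  haveI : Fintype (MaximalSpectrum R) := Fintype.ofFinite _
  let e : MaximalSpectrum R → R := fun I => (IsArtinianRing.equivPi R).symm (Pi.single I 1)
  have he : ∀ I J : MaximalSpectrum R,
      Ideal.Quotient.mk J.asIdeal (e I) = if J = I then 1 else 0 := by
    intro I J
    have := congrFun ((IsArtinianRing.equivPi R).apply_symm_apply (Pi.single I 1)) J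
    rw [IsArtinianRing.equivPi_apply] at this
    rw [this]
    split_ifs with h
    · subst h; simp
    · simp [h]
  have hzero : ∀ x : R, (∀ J : MaximalSpectrum R, x ∈ J.asIdeal) → x = 0 := by
    intro x hx
    apply (IsArtinianRing.equivPi R).injective
    rw [map_zero]
    funext J
    rw [IsArtinianRing.equivPi_apply]
    exact Ideal.Quotient.eq_zero_iff_mem.2 (hx J)
  have hin : ∀ I, 1 - e I ∈ I.asIdeal := fun I => by
    rw [← Ideal.Quotient.eq_zero_iff_mem, map_sub, map_one, he, if_pos rfl, sub_self]
  have hout : ∀ I J, J ≠ I → e I ∈ J.asIdeal := fun I J h => by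
    rw [← Ideal.Quotient.eq_zero_iff_mem, he, if_neg h]
  have hann : ∀ I, ∀ x ∈ I.asIdeal, x * e I = 0 := fun I x hx => hzero _ fun J => by
    rcases eq_or_ne J I with rfl | h
    · exact Ideal.mul_mem_right _ _ hx
    · exact Ideal.mul_mem_left _ _ (hout I J h)
  have hsum : ∑ I, e I = 1 := by
    refine sub_eq_zero.1 (hzero _ fun J => ?_)
    rw [← Ideal.Quotient.eq_zero_iff_mem, map_sub, map_one, map_sum]
    simp [he]
  have hcomap : ∀ g, ∀ I : MaximalSpectrum R, ∃ J : MaximalSpectrum R,
      ∀ r, r ∈ J.asIdeal ↔ σ g⁻¹ r ∈ I.asIdeal := by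
    intro g I
    let f : R →+* R :=
      { toFun := σ g⁻¹
        map_one' := Subtype.ext (by simp [hσv, rho_inv_left])
        map_mul' := fun x y => Subtype.ext (by
          simp only [Subalgebra.coe_mul, hσv, inv_inv, mul_assoc]
          rw [← mul_assoc (ρ g) (ρ g⁻¹), rho_inv_right, one_mul])
        map_zero' := Subtype.ext (by simp [hσv])
        map_add' := fun x y => Subtype.ext (by
          simp only [Subalgebra.coe_add, hσv, mul_add, add_mul]) }
    have hf : Function.Surjective f := fun r => ⟨σ g r, by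
      show σ g⁻¹ (σ g r) = r
      rw [← hσmul, inv_mul_cancel, hσone]⟩
    haveI := I.isMaximal
    exact ⟨⟨I.asIdeal.comap f, Ideal.comap_isMaximal_of_surjective f hf⟩, fun r => Iff.rfl⟩
  choose π hπ using hcomap
  have hπmul : ∀ g h I, π (g * h) I = π g (π h I) := fun g h I =>
    MaximalSpectrum.ext (Ideal.ext fun r => by rw [hπ, hπ, hπ, mul_inv_rev, hσmul])
  have hπone : ∀ I, π 1 I = I := fun I =>
    MaximalSpectrum.ext (Ideal.ext fun r => by rw [hπ, inv_one, hσone])
  let perm : G →* Equiv.Perm (MaximalSpectrum R) :=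
    MonoidHom.mk' (fun g =>
      { toFun := π g
        invFun := π g⁻¹
        left_inv := fun I => by rw [← hπmul, inv_mul_cancel, hπone]
        right_inv := fun I => by rw [← hπmul, mul_inv_cancel, hπone] })
      fun g h => Equiv.ext fun I => hπmul g h I
  let sub : MaximalSpectrum R → Submodule K V := fun I =>
    ⨅ r : I.asIdeal, LinearMap.ker ((r : R) : Module.End K V)
  have hmem : ∀ I v, v ∈ sub I ↔ ∀ r ∈ I.asIdeal, (r : Module.End K V) v = 0 := fun I v => by
    simp [sub, Submodule.mem_iInf]
  refine ⟨MaximalSpectrum R, inferInstance, ?_, ⟨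
    { sub := sub
      perm := perm
      proj := fun I => ((e I : R) : Module.End K V)
      ne_bot := fun I hI => ?_
      maps := fun g I v hv => ?_
      proj_mem := fun I v => (hmem _ _).2 fun r hr => ?_
      proj_self := fun I v hv => ?_
      proj_other := fun I J h v hv => (hmem _ _).1 hv _ (hout J I h)
      sum_proj := fun v => ?_ }⟩⟩
  · by_contra hlt
    haveI : Subsingleton (MaximalSpectrum R) := Fintype.card_le_one_iff_subsingleton.1 (by omega)
    refine hloc (IsLocalRing.of_unique_max_ideal ?_)
    obtain ⟨I, hI⟩ := Ideal.exists_maximal R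
    exact ⟨I, hI, fun J hJ =>
      congrArg MaximalSpectrum.asIdeal (Subsingleton.elim (⟨J, hJ⟩ : MaximalSpectrum R) ⟨I, hI⟩)⟩
  · refine I.isMaximal.ne_top ((Ideal.eq_top_iff_one _).2 ?_)
    have h0 : e I = 0 := Subtype.ext (LinearMap.ext fun v => by
      have hv : ((e I : R) : Module.End K V) v ∈ sub I := (hmem _ _).2 fun r hr => by
        rw [← Module.End.mul_apply, ← Subalgebra.coe_mul, hann I r hr]
        simp
      rw [hI, Submodule.mem_bot] at hv
      simpa using hv)
    have := hin I
    rwa [h0, sub_zero] at this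
  · refine (hmem _ _).2 fun r hr => ?_
    rw [hσswap, (hmem _ _).1 hv _ ((hπ g I r).1 hr), map_zero]
  · rw [← Module.End.mul_apply, ← Subalgebra.coe_mul, hann I r hr]
    simp
  · have := (hmem _ _).1 hv _ (hin I)
    rw [Subalgebra.coe_sub, LinearMap.sub_apply, Subalgebra.coe_one, Module.End.one_apply,
      sub_eq_zero] at this
    exact this.symm
  · have h := congrArg (fun x : R => (x : Module.End K V) v) hsum
    simpa [LinearMap.sum_apply] using h

end H33.SolvLin
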