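import Mathlib
import Cfsg.Agent.H33.SolvLin.Blocks

/-!
# Elementary properties of block decompositions
-/

set_option autoImplicit false

namespace H33.SolvLin

open Module

variable {K V G : Type} [Field K] [AddCommGroup V] [Module K V] [Group G]
  {ρ : G →* Module.End K V} {ι : Type} [Fintype ι]

namespace Blocks

variable (b : Blocks ρ ι)

/-- The space is the product of the blocks. -/
noncomputable def splitEquiv : V ≃ₗ[K] ((i : ι) → b.sub i) where
  toFun v i := ⟨b.proj i v, b.proj_mem i v⟩
  invFun w := ∑ i, (w i : V)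
  map_add' v w := funext fun i => Subtype.ext (map_add _ v w)
  map_smul' c v := funext fun i => Subtype.ext (map_smul _ c v)
  left_inv v := b.sum_proj v
  right_inv w := funext fun i => Subtype.ext (by
    show b.proj i (∑ j, (w j : V)) = (w i : V)
    rw [map_sum, Finset.sum_eq_single i]
    · exact b.proj_self i _ (w i).2
    · exact fun j _ hj => b.proj_other j i hj _ (w j).2
    · exact fun h => absurd (Finset.mem_univ i) h)

theorem finrank_sum [FiniteDimensional K V] :
    finrank K V = ∑ i, finrank K (b.sub i) := by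
  rw [b.splitEquiv.finrank_eq, Module.finrank_pi_fintype]

theorem finrank_pos [FiniteDimensional K V] (i : ι) : 1 ≤ finrank K (b.sub i) :=
  Submodule.one_le_finrank_iff.2 (b.ne_bot i)

/-- The stabiliser of a block. -/
def stab (i : ι) : Subgroup G where
  carrier := {g | b.perm g i = i}
  one_mem' := by simp
  mul_mem' := fun {g h} hg hh => by
    show b.perm (g * h) i = i
    rw [map_mul, Equiv.Perm.mul_apply, hh, hg]
  inv_mem' := fun {g} hg => by
    show b.perm g⁻¹ i = i
    rw [map_inv, Equiv.Perm.inv_def, Equiv.symm_apply_eq]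
    exact hg.symm

/-- The action of the stabiliser on its block. -/
noncomputable def restr (i : ι) : b.stab i →* Module.End K (b.sub i) where
  toFun g := (ρ g).restrict fun v hv => by
    have h := b.maps g i v hv
    rwa [show b.perm g i = i from g.2] at h
  map_one' := LinearMap.ext fun v => Subtype.ext (by simp)
  map_mul' g h := LinearMap.ext fun v => Subtype.ext (by simp [Module.End.mul_apply])

theorem mem_stab_of_ker {g : G} (hg : g ∈ b.perm.ker) (i : ι) : g ∈ b.stab i := by
  show b.perm g i = i
  rw [MonoidHom.mem_ker.1 hg, Equiv.Perm.one_apply]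

/-- The kernel of the permutation action, acting on a block. -/
noncomputable def kerRestr (i : ι) : b.perm.ker →* Module.End K (b.sub i) :=
  (b.restr i).comp (Subgroup.inclusion fun _ hg => b.mem_stab_of_ker hg i)

theorem kerRestr_faithful (g : b.perm.ker) (h : ∀ i, b.kerRestr i g = 1) : ρ g = 1 := by
  refine LinearMap.ext fun v => ?_
  conv_lhs => rw [← b.sum_proj v]
  rw [map_sum, Module.End.one_apply]
  conv_rhs => rw [← b.sum_proj v]
  refine Finset.sum_congr rfl fun i _ => ?_
  exact congrArg Subtype.val (LinearMap.congr_fun (h i) ⟨_, b.proj_mem i v⟩)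

theorem proj_rho (g : G) (i : ι) (v : V) :
    b.proj (b.perm g i) (ρ g v) = ρ g (b.proj i v) := by
  conv_lhs => rw [← b.sum_proj v, map_sum, map_sum]
  rw [Finset.sum_eq_single i]
  · exact b.proj_self _ _ (b.maps g i _ (b.proj_mem i v))
  · exact fun j _ hj => b.proj_other _ _ ((b.perm g).injective.ne hj) _ (b.maps g j _ (b.proj_mem j v))
  · exact fun h => absurd (Finset.mem_univ i) h

theorem transitive (hirr : Irr ρ) (i j : ι) : ∃ g, b.perm g i = j := by
  classical
  by_contra hno
  push Not at hno
  let O : Finset ι := Finset.univ.filter fun l => ∃ g, b.perm g i = l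
  let U : Submodule K V := ⨆ l : O, b.sub l
  have hU : ∀ g, ∀ v ∈ U, ρ g v ∈ U := by
    intro g v hv
    induction hv using Submodule.iSup_induction' with
    | mem l v hv =>
      obtain ⟨h, hh⟩ := (Finset.mem_filter.1 l.2).2
      refine Submodule.mem_iSup_of_mem (⟨b.perm g l, Finset.mem_filter.2 ⟨Finset.mem_univ _,
        g * h, by rw [map_mul, Equiv.Perm.mul_apply, hh]⟩⟩ : O) (b.maps g l v hv)
    | zero => rw [map_zero]; exact U.zero_mem
    | add x y _ _ hx hy => rw [map_add]; exact U.add_mem hx hy
  rcases hirr U hU with h | h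
  · refine b.ne_bot i (le_bot_iff.1 (h ▸ ?_))
    exact le_iSup (fun l : O => b.sub l) ⟨i, Finset.mem_filter.2 ⟨Finset.mem_univ _, 1, by simp⟩⟩
  · refine b.ne_bot j ((Submodule.eq_bot_iff _).2 fun v hv => ?_)
    have hzero : ∀ w ∈ U, b.proj j w = 0 := by
      intro w hw
      induction hw using Submodule.iSup_induction' with
      | mem l w hw =>
        obtain ⟨g, hg⟩ := (Finset.mem_filter.1 l.2).2
        exact b.proj_other l j (fun e => hno g (hg.trans e)) w hw
      | zero => rw [map_zero]
      | add x y _ _ hx hy => rw [map_add, hx, hy, add_zero]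
    rw [← b.proj_self j v hv]
    exact hzero v (h ▸ Submodule.mem_top)

theorem finrank_eq [FiniteDimensional K V] (hirr : Irr ρ) (i j : ι) :
    finrank K (b.sub i) = finrank K (b.sub j) := by
  have key : ∀ i j, finrank K (b.sub i) ≤ finrank K (b.sub j) := by
    intro i j
    obtain ⟨g, hg⟩ := b.transitive hirr i j
    refine LinearMap.finrank_le_finrank_of_injective
      (f := (ρ g).restrict (p := b.sub i) (q := b.sub j) fun v hv => hg ▸ b.maps g i v hv) ?_
    intro v w h
    refine Subtype.ext ?_
    have h' : ρ g v = ρ g w := congrArg Subtype.val h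
    rw [← rho_inv_apply ρ g v, h', rho_inv_apply]
  exact le_antisymm (key i j) (key j i)

theorem irr_restr (hirr : Irr ρ) (i : ι) : Irr (b.restr i) := by
  intro U hU
  let U' : Submodule K V := U.map (b.sub i).subtype
  let T : Submodule K V := ⨆ g : G, U'.map (ρ g)
  have hT : ∀ h, ∀ v ∈ T, ρ h v ∈ T := by
    intro h v hv
    induction hv using Submodule.iSup_induction' with
    | mem g v hv =>
      obtain ⟨w, hw, rfl⟩ := hv
      rw [← Module.End.mul_apply, ← map_mul]
      exact Submodule.mem_iSup_of_mem (h * g) ⟨w, hw, rfl⟩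
    | zero => rw [map_zero]; exact T.zero_mem
    | add x y _ _ hx hy => rw [map_add]; exact T.add_mem hx hy
  have hproj : ∀ v ∈ T, b.proj i v ∈ U' := by
    intro v hv
    induction hv using Submodule.iSup_induction' with
    | mem g v hv =>
      obtain ⟨_, ⟨w, hw, rfl⟩, rfl⟩ := hv
      by_cases hg : b.perm g i = i
      · have e := b.proj_self i (ρ g w) (by
          have := b.maps g i w w.2
          rwa [hg] at this)
        show b.proj i (ρ g (w : V)) ∈ U'
        rw [e]
        exact ⟨b.restr i ⟨g, hg⟩ w, hU ⟨g, hg⟩ w hw, rfl⟩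
      · show b.proj i (ρ g (w : V)) ∈ U'
        rw [b.proj_other _ _ hg _ (b.maps g i w w.2)]
        exact U'.zero_mem
    | zero => rw [map_zero]; exact U'.zero_mem
    | add x y _ _ hx hy => rw [map_add]; exact U'.add_mem hx hy
  rcases hirr T hT with h | h
  · left
    rw [Submodule.eq_bot_iff]
    intro u hu
    refine Subtype.ext ?_
    have : (u : V) ∈ T := Submodule.mem_iSup_of_mem 1 ⟨u, ⟨u, hu, rfl⟩, by simp⟩
    rw [h, Submodule.mem_bot] at this
    exact this
  · right
    rw [Submodule.eq_top_iff']
    intro u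
    obtain ⟨w, hw, hwu⟩ := hproj (u : V) (h ▸ Submodule.mem_top)
    rw [b.proj_self i u u.2] at hwu
    exact Subtype.ext hwu ▸ hw

end Blocks

end H33.SolvLin
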