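import Mathlib
import Cfsg.Agent.H27.ClassNumber
import Cfsg.Agent.H1.Fitting

/-!
# Bounds on the class numbers of all subgroups of a finite group

`CB G B` says that every subgroup of `G` has at most `B` conjugacy classes.
-/

set_option autoImplicit false

namespace H33.SolvLin

open Subgroup

variable {G : Type*} [Group G] {Q : Type*} [Group Q]

/-- Every subgroup has at most `B` conjugacy classes. -/
def CB (G : Type*) [Group G] (B : ℕ) : Prop :=
  ∀ X : Subgroup G, Nat.card (ConjClasses X) ≤ B

theorem k_le_card [Finite G] : Nat.card (ConjClasses G) ≤ Nat.card G :=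
  Nat.card_le_card_of_surjective _ Quotient.mk_surjective

theorem k_le_of_surjective [Finite G] (f : G →* Q) (hf : Function.Surjective f) :
    Nat.card (ConjClasses Q) ≤ Nat.card (ConjClasses G) :=
  Nat.card_le_card_of_surjective _ (ConjClasses.map_surjective hf)

theorem k_le_of_equiv [Finite G] (e : G ≃* Q) :
    Nat.card (ConjClasses Q) ≤ Nat.card (ConjClasses G) :=
  k_le_of_surjective e.toMonoidHom e.surjective

theorem CB.mono {a b : ℕ} (h : CB G a) (hab : a ≤ b) : CB G b := fun X => (h X).trans hab

theorem CB.self [Finite G] {a : ℕ} (h : CB G a) : Nat.card (ConjClasses G) ≤ a :=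
  (k_le_of_equiv Subgroup.topEquiv).trans (h ⊤)

theorem cb_card [Finite G] : CB G (Nat.card G) := fun X =>
  k_le_card.trans (Nat.card_le_card_of_injective _ X.subtype_injective)

theorem cb_of_card_le [Finite G] {B : ℕ} (h : Nat.card G ≤ B) : CB G B := cb_card.mono h

theorem CB.of_injective [Finite Q] {B : ℕ} (h : CB Q B) (f : G →* Q)
    (hf : Function.Injective f) : CB G B := fun X =>
  (k_le_of_equiv (X.equivMapOfInjective f hf).symm).trans (h _)

theorem CB.subgroup [Finite G] {B : ℕ} (h : CB G B) (H : Subgroup G) : CB H B :=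
  h.of_injective H.subtype H.subtype_injective

theorem CB.of_surjective [Finite G] {B : ℕ} (h : CB G B) (f : G →* Q)
    (hf : Function.Surjective f) : CB Q B := fun Y =>
  (k_le_of_surjective (f.subgroupComap Y)
    (f.subgroupComap_surjective_of_surjective Y hf)).trans (h _)

theorem cb_hom [Finite G] (f : G →* Q) {a b : ℕ} (ha : CB f.ker a) (hb : CB f.range b) :
    CB G (a * b) := by
  intro X
  haveI := Fintype.ofFinite X
  refine (H27.class_number_le_normal_mul_quotient (f.comp X.subtype).ker).trans ?_
  refine Nat.mul_le_mul ?_ ?_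
  · let ι : (f.comp X.subtype).ker →* f.ker :=
      (X.subtype.comp (f.comp X.subtype).ker.subtype).codRestrict f.ker fun x => x.2
    refine ((ha.of_injective ι ?_).self)
    intro x y h
    exact Subtype.ext (Subtype.ext (congrArg (fun z => ((z : f.ker) : G)) h))
  · haveI : Finite f.range := Finite.of_surjective _ f.rangeRestrict_surjective
    let e := QuotientGroup.quotientKerEquivRange (f.comp X.subtype)
    let ι : (f.comp X.subtype).range →* f.range :=
      Subgroup.inclusion (by rintro _ ⟨x, rfl⟩; exact ⟨x, rfl⟩)
    haveI : Finite (f.comp X.subtype).range :=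
      Finite.of_surjective _ (f.comp X.subtype).rangeRestrict_surjective
    exact (k_le_of_equiv e.symm).trans
      ((hb.of_injective ι (Subgroup.inclusion_injective _)).self)

theorem cb_hom' [Finite G] [Finite Q] (f : G →* Q) {a b : ℕ} (ha : CB f.ker a) (hb : CB Q b) :
    CB G (a * b) :=
  cb_hom f ha (hb.subgroup _)

theorem cb_ext [Finite G] (N : Subgroup G) [N.Normal] {a b : ℕ} (ha : CB N a)
    (hb : CB (G ⧸ N) b) : CB G (a * b) := by
  refine cb_hom' (QuotientGroup.mk' N) ?_ hb
  exact ha.of_injective (Subgroup.inclusion (QuotientGroup.ker_mk' N).le)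
    (Subgroup.inclusion_injective _)

theorem cb_one_of_subsingleton [Subsingleton G] : CB G 1 := fun X => by
  haveI : Subsingleton (ConjClasses X) := ⟨fun a b => by
    obtain ⟨a, rfl⟩ := ConjClasses.exists_rep a
    obtain ⟨b, rfl⟩ := ConjClasses.exists_rep b
    rw [Subsingleton.elim a b]⟩
  exact le_of_eq Nat.card_unique

/-- Bound for a group embedded in a finite family of groups. -/
theorem cb_family {ι : Type*} [Fintype ι] (R : ι → Type*) [∀ i, Group (R i)]
    [∀ i, Finite (R i)] (b : ι → ℕ) (hb : ∀ i, CB (R i) (b i)) [Finite G]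
    (f : ∀ i, G →* R i) (hf : ∀ x, (∀ i, f i x = 1) → x = 1) : CB G (∏ i, b i) := by
  classical
  suffices h : ∀ s : Finset ι, ∀ N : Subgroup G, (∀ x ∈ N, (∀ i ∈ s, f i x = 1) → x = 1) →
      CB N (∏ i ∈ s, b i) by
    exact (h Finset.univ ⊤ fun x _ hx => hf x fun i => hx i (Finset.mem_univ i)).of_injective
      ((MonoidHom.id G).codRestrict ⊤ fun _ => Subgroup.mem_top _) fun x y h =>
        congrArg Subtype.val h
  intro s
  induction s using Finset.induction_on with
  | empty =>
    intro N hN
    haveI : Subsingleton N :=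
      ⟨fun a c => Subtype.ext (by
        rw [hN a a.2 (by simp), hN c c.2 (by simp)])⟩
    rw [Finset.prod_empty]
    exact cb_one_of_subsingleton
  | insert a s has ih =>
    intro N hN
    rw [Finset.prod_insert has, mul_comm]
    refine cb_hom' ((f a).comp N.subtype) ?_ (hb a)
    refine (ih (N ⊓ (f a).ker) fun x hx h => hN x hx.1 fun i hi => ?_).of_injective
      ((N.subtype.comp ((f a).comp N.subtype).ker.subtype).codRestrict _
        fun x => ⟨x.1.2, x.2⟩) ?_
    · rcases Finset.mem_insert.1 hi with rfl | hi
      · exact hx.2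
      · exact h i hi
    · intro x y h
      exact Subtype.ext (Subtype.ext (congrArg (fun z => ((z : (N ⊓ (f a).ker : Subgroup G)) : G)) h))

/-- If all but at most `z` elements have centralisers of order at most `c`, then every subgroup
`X` satisfies `k(X) |X| ≤ (|X| - z) c + z |X|`. -/
theorem k_mul_card_le [Finite G] (S : Set G) (c : ℕ)
    (hc : ∀ x, x ∉ S → Nat.card (centralizer ({x} : Set G)) ≤ c) (X : Subgroup G) :
    Nat.card (ConjClasses X) * Nat.card X ≤
      Nat.card X * c + S.ncard * (Nat.card X - c) := by
  classical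
  haveI := Fintype.ofFinite G
  rw [H27.classNumber_mul_card (X := X)]
  have hcent : ∀ x : X, Nat.card (centralizer ({x} : Set X)) ≤
      c + (if (x : G) ∈ S then Nat.card X - c else 0) := by
    intro x
    split_ifs with h
    · have := Nat.card_le_card_of_injective (α := centralizer ({x} : Set X)) (β := X) _
        (Subgroup.subtype_injective _)
      omega
    · refine le_trans ?_ (Nat.le_add_right _ _)
      refine le_trans (Nat.card_le_card_of_injective
        (fun y => (⟨((y : X) : G), ?_⟩ : centralizer ({(x : G)} : Set G))) ?_) (hc _ h)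
      · exact H27.mem_cent.2 (congrArg Subtype.val (H27.mem_cent.1 y.2))
      · intro y y' e
        exact Subtype.ext (Subtype.ext (congrArg Subtype.val e :))
  refine (Finset.sum_le_sum fun x _ => hcent x).trans ?_
  rw [Finset.sum_add_distrib, Finset.sum_ite, Finset.sum_const_zero, add_zero, Finset.sum_const,
    Finset.sum_const, smul_eq_mul, smul_eq_mul, Finset.card_univ, Nat.card_eq_fintype_card]
  refine Nat.add_le_add_left (Nat.mul_le_mul_right _ ?_) _
  rw [Set.ncard_eq_toFinset_card' S]
  refine Finset.card_le_card_of_injOn (fun x : X => (x : G)) ?_ ?_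
  · intro x hx
    simpa using hx
  · intro x _ y _ e
    exact Subtype.ext e

end H33.SolvLin
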