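import Mathlib
import Cfsg.Agent.H33.SolvLin.Class
import Cfsg.Agent.H33.SolvLin.Arith
import Cfsg.Agent.H62.ClassNumberPerm
import Cfsg.Agent.H60.PrimFit

/-!
# A solvable permutation group of degree `d` has at most `3 ^ (d - 1)` conjugacy classes
-/

set_option autoImplicit false

namespace H33.SolvLin

open Equiv MulAction
open scoped Pointwise

theorem isSolvable_subgroup {G : Type*} [Group G] [Group.IsSolvable G] (H : Subgroup G) :
    Group.IsSolvable H :=
  inferInstance

theorem isSolvable_range {G Q : Type*} [Group G] [Group Q] [Group.IsSolvable G] (f : G →* Q) :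
    Group.IsSolvable f.range :=
  Group.isSolvable_of_surjective f.rangeRestrict_surjective

theorem fitting_ne_bot {G : Type*} [Group G] [Finite G] [Group.IsSolvable G] [Nontrivial G] :
    Cfsg.fittingSubgroup G ≠ ⊥ := by
  intro h
  have h1 := H1.centralizer_fitting_le_of_isSolvable (G := G) (isSolvable_subgroup _)
  rw [h] at h1
  obtain ⟨g, hg⟩ := exists_ne (1 : G)
  exact hg (Subgroup.mem_bot.1 (h1 (Subgroup.mem_centralizer_iff.2 fun a ha => by
    rw [Subgroup.mem_bot.1 ha, one_mul, mul_one])))

theorem perm_block {α : Type} [Fintype α] {d : ℕ} (hd : Fintype.card α = d)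
    (ih : ∀ m < d, ∀ (β : Type) [Fintype β], Fintype.card β = m →
      ∀ H : Subgroup (Perm β), Group.IsSolvable H → Nat.card (ConjClasses H) ≤ 3 ^ (m - 1))
    (G : Subgroup (Perm α)) [Group.IsSolvable G] {B : Set α} (hB2 : B.Nontrivial)
    (hBu : B ≠ Set.univ)
    (hB : ∀ g : G, ∀ a b : α, a ∈ B → b ∈ B → g • a ∈ B → g • b ∈ B) :
    Nat.card (ConjClasses G) ≤ 3 ^ (d - 1) := by
  classical
  let f : α → Set G := fun x => {g | g • x ∈ B}
  let C : Type := Set.range f
  let f' : α → C := Set.rangeFactorization f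
  haveI : Fintype C := Fintype.ofFinite C
  have hstep : ∀ (g : G) (x : α), {k : G | k * g ∈ f x} = f (g • x) := fun g x => by
    ext k; simp [f, mul_smul]
  have hmem : ∀ (g : G) (c : C), {k : G | k * g ∈ (c : Set G)} ∈ Set.range f := by
    rintro g ⟨_, x, rfl⟩
    exact ⟨g • x, (hstep g x).symm⟩
  let π : G →* Perm C :=
    MonoidHom.mk' (fun g =>
      { toFun := fun c => ⟨_, hmem g c⟩
        invFun := fun c => ⟨_, hmem g⁻¹ c⟩
        left_inv := fun c => Subtype.ext (Set.ext fun k => by simp [mul_assoc])
        right_inv := fun c => Subtype.ext (Set.ext fun k => by simp [mul_assoc]) })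
      (fun g h => Equiv.ext fun c => Subtype.ext (Set.ext fun k => by simp [mul_assoc]))
  have hπ : ∀ (g : G) (x : α), π g (f' x) = f' (g • x) := fun g x => Subtype.ext (hstep g x)
  have hfix : ∀ (n : π.ker) (c : C) (x : α),
      f' ((((n : G) : Perm α)) x) = c ↔ f' x = c := by
    intro n c x
    have h := hπ (n : G) x
    rw [show π (n : G) = 1 from n.2, Perm.one_apply] at h
    rw [h]
    rfl
  let ψ : ∀ c : C, π.ker →* Perm {x // f' x = c} := fun c =>
    MonoidHom.mk' (fun n => ((n : G) : Perm α).subtypePerm (hfix n c))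
      (fun n m => Equiv.ext fun x => Subtype.ext rfl)
  obtain ⟨a, ha, b, hb, hab⟩ := hB2
  obtain ⟨y, hy⟩ := (Set.ne_univ_iff_exists_notMem B).1 hBu
  have hab' : f' a = f' b := Subtype.ext (Set.ext fun g => ⟨hB g a b ha hb, hB g b a hb ha⟩)
  have hsurj : Function.Surjective f' := Set.rangeFactorization_surjective
  have hay : f' a ≠ f' y := fun e => by
    have : (1 : G) ∈ f a ↔ (1 : G) ∈ f y := Iff.of_eq (by rw [show f a = f y from congrArg Subtype.val e])
    simp [f, ha, hy] at this
  have hm2 : Fintype.card C < d := hd ▸ Fintype.card_lt_of_surjective_not_injective f' hsurj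
    (fun hi => hab (hi hab'))
  have hsum : ∑ c : C, Fintype.card {x // f' x = c} = d := by
    rw [← Fintype.card_sigma, Fintype.card_congr (Equiv.sigmaFiberEquiv f'), hd]
  have hpos : ∀ c : C, 1 ≤ Fintype.card {x // f' x = c} := fun c =>
    Fintype.card_pos_iff.2 (let ⟨x, h⟩ := hsurj c; ⟨⟨x, h⟩⟩)
  have hlt : ∀ c : C, Fintype.card {x // f' x = c} < d := by
    intro c
    rw [← hd]
    rcases eq_or_ne (f' a) c with h | h
    · exact Fintype.card_subtype_lt (x := y) (fun e => hay (h.trans e.symm))
    · exact Fintype.card_subtype_lt (x := a) h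
  have hrange : ∀ c : C, CB (ψ c).range (3 ^ (Fintype.card {x // f' x = c} - 1)) := by
    intro c X
    have e := (X.equivMapOfInjective _ (ψ c).range.subtype_injective)
    refine (k_le_of_equiv e.symm).trans (ih _ (hlt c) _ rfl _ ?_)
    haveI : Group.IsSolvable π.ker := isSolvable_subgroup _
    haveI : Group.IsSolvable (ψ c).range := isSolvable_range _
    haveI : Group.IsSolvable X := isSolvable_subgroup _
    exact Group.isSolvable_of_surjective (f := e.toMonoidHom) e.surjective
  have hker : CB π.ker (∏ c : C, 3 ^ (Fintype.card {x // f' x = c} - 1)) :=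
    cb_family (fun c => (ψ c).range) _ hrange (fun c => (ψ c).rangeRestrict) fun n hn =>
      Subtype.ext (Subtype.ext (Equiv.ext fun x =>
        congrArg Subtype.val (Equiv.ext_iff.1 (congrArg Subtype.val (hn (f' x))) ⟨x, rfl⟩)))
  have hπr : Nat.card (ConjClasses π.range) ≤ 3 ^ (Fintype.card C - 1) :=
    ih _ hm2 C rfl π.range (isSolvable_range _)
  refine (H62.classes_le_kernel_mul_range π).trans ?_
  refine (Nat.mul_le_mul hker.self hπr).trans (le_of_eq ?_)
  rw [Finset.prod_pow_eq_pow_sum, ← pow_add]
  congr 1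
  have : ∑ c : C, (Fintype.card {x // f' x = c} - 1) + Fintype.card C = d := by
    rw [Fintype.card_eq_sum_ones (α := C), ← Finset.sum_add_distrib, ← hsum]
    exact Finset.sum_congr rfl fun c _ => Nat.sub_add_cancel (hpos c)
  have hm1 : 1 ≤ Fintype.card C := Fintype.card_pos_iff.2 ⟨f' a⟩
  omega

theorem perm_primitive {α : Type} [Fintype α] {d : ℕ} (hd : Fintype.card α = d) (h5 : 5 ≤ d)
    (G : Subgroup (Perm α)) [Group.IsSolvable G] [IsPreprimitive G α] :
    Nat.card (ConjClasses G) ≤ 3 ^ (d - 1) := by
  classical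
  rcases subsingleton_or_nontrivial G with h | h
  · exact (cb_one_of_subsingleton (G := G)).self.trans (Nat.one_le_pow _ _ (by norm_num))
  haveI : Nonempty α := Fintype.card_pos_iff.1 (by omega)
  obtain ⟨hab, hcent, p, e, hp, hFc, hexp, hX⟩ :=
    H60.fitting_of_primitive (H := G) (X := α) fitting_ne_bot
  haveI := Fact.mk hp
  set F := Cfsg.fittingSubgroup G with hF
  haveI : F.Normal := H1.fittingSubgroup_normal G
  haveI : IsMulCommutative F := ⟨⟨fun a b => Subtype.ext (hab a a.2 b b.2)⟩⟩
  open scoped IsMulCommutative in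
  letI : Module (ZMod p) (Additive F) := AddCommGroup.zmodModule fun x => by
    refine Additive.toMul.injective (Subtype.ext ?_)
    simpa using hexp x.toMul x.toMul.2
  obtain ⟨φ, hφ⟩ := H60.exists_conj_hom (H := G) (F := F) (p := p) (e := e) hFc
  rw [hcent] at hφ
  have hde : d = p ^ e := by rw [← hd, ← Nat.card_eq_fintype_card, hX]
  have he : 1 ≤ e := by
    rcases Nat.eq_zero_or_pos e with h0 | h0
    · rw [h0, pow_zero] at hde
      omega
    · exact h0
  have hcard : Nat.card G = Nat.card F * Nat.card φ.range := by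
    rw [Subgroup.card_eq_card_quotient_mul_card_subgroup φ.ker,
      Nat.card_congr (QuotientGroup.quotientKerEquivRange φ).toEquiv, hφ, mul_comm]
  refine k_le_card.trans ?_
  rw [hcard, hFc, hde]
  rcases em (p = 2 ∧ e < 4) with ⟨rfl, he4⟩ | hbig
  · have he3 : e = 3 := by
      interval_cases e <;> simp at hde ⊢ <;> omega
    subst he3
    refine (Nat.mul_le_mul_left _ (Subgroup.card_le_card_group φ.range)).trans ?_
    rw [Matrix.card_GL_field]
    decide
  · refine le_trans ?_ (affine_bound hp.two_le he (fun h2 => by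
      by_contra hlt
      exact hbig ⟨h2, by omega⟩))
    rw [pow_add]
    refine Nat.mul_le_mul_left _ ((Subgroup.card_le_card_group φ.range).trans ?_)
    refine le_trans (Nat.card_le_card_of_injective
      (fun u : GL (Fin e) (ZMod p) => (u : Matrix (Fin e) (Fin e) (ZMod p)))
      Units.val_injective) (le_of_eq ?_)
    rw [show Nat.card (Matrix (Fin e) (Fin e) (ZMod p)) = Nat.card (Fin e → Fin e → ZMod p) from rfl,
      Nat.card_fun, Nat.card_fun, Nat.card_zmod, Nat.card_eq_fintype_card, Fintype.card_fin,
      ← pow_mul]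
    ring_nf

/-- A solvable permutation group of degree `d` has at most `3 ^ (d - 1)` conjugacy classes. -/
theorem perm_bound : ∀ (d : ℕ) (α : Type) [Fintype α], Fintype.card α = d →
    ∀ G : Subgroup (Perm α), Group.IsSolvable G → Nat.card (ConjClasses G) ≤ 3 ^ (d - 1) := by
  intro d
  induction d using Nat.strong_induction_on with
  | _ d ih =>
  intro α _ hd G hG
  classical
  rcases Nat.lt_or_ge d 5 with hd5 | hd5
  · refine k_le_card.trans ((Subgroup.card_le_card_group G).trans ?_)
    rw [Nat.card_perm, Nat.card_eq_fintype_card, hd]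
    interval_cases d <;> decide
  by_cases hp : IsPreprimitive G α
  · exact perm_primitive hd hd5 G
  · obtain ⟨B, h1, h2, h3⟩ := H62.exists_block_of_not_preprimitive (G := G) (by omega) hp
    exact perm_block hd ih G h1 h2 h3

theorem perm_cb {α : Type} [Fintype α] (G : Subgroup (Perm α)) (hG : Group.IsSolvable G) :
    CB G (3 ^ (Fintype.card α - 1)) := by
  intro X
  haveI := hG
  haveI : Group.IsSolvable X := isSolvable_subgroup X
  have e := X.equivMapOfInjective _ G.subtype_injective
  refine (k_le_of_equiv e.symm).trans (perm_bound _ α rfl _ ?_)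
  exact Group.isSolvable_of_surjective (f := e.toMonoidHom) e.surjective

end H33.SolvLin
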