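import Mathlib
import Cfsg.Agent.H1.Fitting

/-!
# The Fitting subgroup of the centraliser of a maximal abelian normal subgroup

`Setting C A`: `C` is a solvable normal subgroup, `A` a cyclic normal subgroup central in `C` and
containing every abelian normal subgroup lying in `C`. Then the Fitting subgroup `fitIn C` of `C`
has class at most two modulo `A`, and `fitIn C / A` has squarefree exponent.
-/

set_option autoImplicit false

namespace H33.SolvLin

open Subgroup

variable {G : Type} [Group G]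

/-- `C` normal solvable, `A` cyclic, normal, central in `C`, containing all abelian normal
subgroups of the group inside `C`. -/
structure Setting (C A : Subgroup G) : Prop where
  C_normal : C.Normal
  A_normal : A.Normal
  A_le : A ≤ C
  central : ∀ a ∈ A, ∀ c ∈ C, a * c = c * a
  solv : Group.IsSolvable C
  cyclic : IsCyclic A
  maximal : ∀ N : Subgroup G, N.Normal → N ≤ C → (∀ a ∈ N, ∀ b ∈ N, a * b = b * a) → N ≤ A

/-- The Fitting subgroup of `C`, in the whole group. -/
noncomputable def fitIn (C : Subgroup G) : Subgroup G :=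
  (Cfsg.fittingSubgroup C).map C.subtype

theorem fitIn_le (C : Subgroup G) : fitIn C ≤ C := map_subtype_le _

/-- `x y x⁻¹ y⁻¹` is bilinear when it is central. -/
theorem comm_mul_right {x y z c : G} (hc : x * z * x⁻¹ * z⁻¹ = c) (hy : y * c = c * y) :
    x * (y * z) * x⁻¹ * (y * z)⁻¹ = (x * y * x⁻¹ * y⁻¹) * c := by
  have h : x * z * x⁻¹ = c * z := by rw [← hc]; group
  calc x * (y * z) * x⁻¹ * (y * z)⁻¹ = (x * y * x⁻¹) * (x * z * x⁻¹) * z⁻¹ * y⁻¹ := by group
    _ = (x * y * x⁻¹) * (c * z) * z⁻¹ * y⁻¹ := by rw [h]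
    _ = (x * y * x⁻¹) * (c * y⁻¹) := by group
    _ = (x * y * x⁻¹) * (y⁻¹ * c) := by
        congr 1
        calc c * y⁻¹ = y⁻¹ * (y * c) * y⁻¹ := by group
          _ = y⁻¹ * (c * y) * y⁻¹ := by rw [hy]
          _ = y⁻¹ * c := by group
    _ = _ := by group

namespace Setting

variable [Finite G] {C A : Subgroup G} (S : Setting C A)
include S

theorem fit_normal : (fitIn C).Normal := by
  haveI := S.C_normal
  haveI := H1.fittingSubgroup_characteristic C
  exact ConjAct.normal_of_characteristic_of_normal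

theorem fit_nilpotent : Group.IsNilpotent (fitIn C) :=
  H1.isNilpotent_map (H1.isNilpotent_fittingSubgroup C) _

theorem A_le_fit : A ≤ fitIn C := by
  haveI := S.A_normal
  haveI : (A.subgroupOf C).Normal := inferInstance
  haveI : IsMulCommutative (A.subgroupOf C) := ⟨⟨fun a b => by
    refine Subtype.ext (Subtype.ext ?_)
    exact S.central _ a.2 _ (b : C).2⟩⟩
  have h : A.subgroupOf C ≤ Cfsg.fittingSubgroup C := by
    open scoped IsMulCommutative in
    exact H1.le_fittingSubgroup inferInstance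
  intro a ha
  exact ⟨⟨a, S.A_le ha⟩, h ha, rfl⟩

theorem central_fit {a : G} (ha : a ∈ A) {y : G} (hy : y ∈ fitIn C) : a * y = y * a :=
  S.central a ha y (fitIn_le C hy)

theorem mem_A_of_central {x : G} (hx : x ∈ fitIn C)
    (h : ∀ y ∈ fitIn C, x * y = y * x) : x ∈ A := by
  haveI := S.fit_normal
  let Z : Subgroup G := fitIn C ⊓ centralizer (fitIn C : Set G)
  haveI : (centralizer (fitIn C : Set G)).Normal := normal_centralizer
  refine S.maximal Z inferInstance (inf_le_left.trans (fitIn_le C)) ?_ ⟨hx, ?_⟩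
  · intro a ha b hb
    exact mem_centralizer_iff.1 hb.2 a ha.1
  · exact mem_centralizer_iff.2 fun y hy => (h y hy).symm

theorem commutator_le : ⁅fitIn C, fitIn C⁆ ≤ A := by
  haveI := S.A_normal
  haveI := S.fit_normal
  set F := fitIn C with hF
  obtain ⟨n, hn⟩ := (Subgroup.isNilpotent_iff_lowerCentralSeries F).1 S.fit_nilpotent
  have hnorm : ∀ i, (F.lowerCentralSeries i).Normal := by
    intro i
    induction i with
    | zero => exact ‹F.Normal›
    | succ i ih =>
      haveI := ih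
      rw [Subgroup.lowerCentralSeries_succ]
      infer_instance
  have hleF : ∀ i, F.lowerCentralSeries i ≤ F := by
    intro i
    induction i with
    | zero => exact le_rfl
    | succ i ih =>
      rw [Subgroup.lowerCentralSeries_succ]
      exact (commutator_mono ih le_rfl).trans F.commutator_le_self
  have key : ∀ i, 1 ≤ i → F.lowerCentralSeries (i + 1) ≤ A → F.lowerCentralSeries i ≤ A := by
    intro i hi hA
    haveI := hnorm i
    have h1 : ⁅⁅F.lowerCentralSeries i, F⁆, F⁆ = ⊥ := by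
      rw [commutator_eq_bot_iff_le_centralizer]
      intro x hx
      exact mem_centralizer_iff.2 fun y hy =>
        (S.central_fit (hA (by rwa [Subgroup.lowerCentralSeries_succ])) hy).symm
    have h3 : ⁅⁅F, F⁆, F.lowerCentralSeries i⁆ = ⊥ :=
      commutator_commutator_eq_bot_of_rotate (by rw [commutator_comm F]; exact h1) h1
    have hle : F.lowerCentralSeries i ≤ ⁅F, F⁆ := by
      obtain ⟨j, rfl⟩ : ∃ j, i = j + 1 := ⟨i - 1, by omega⟩
      rw [Subgroup.lowerCentralSeries_succ]
      exact commutator_mono (hleF j) le_rfl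
    refine S.maximal _ (hnorm i) ((hleF i).trans (fitIn_le C)) fun a ha b hb => ?_
    rw [commutator_eq_bot_iff_le_centralizer] at h3
    exact (mem_centralizer_iff.1 (h3 (hle ha)) b hb).symm
  have all : ∀ j i, 1 ≤ i → n ≤ i + j → F.lowerCentralSeries i ≤ A := by
    intro j
    induction j with
    | zero =>
      intro i _ hi
      rw [Nat.add_zero] at hi
      have hbot : ∀ m, n ≤ m → F.lowerCentralSeries m = ⊥ := fun m hm => by
        induction m, hm using Nat.le_induction with
        | base => exact hn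
        | succ m _ ih => rw [Subgroup.lowerCentralSeries_succ, ih, commutator_bot_left]
      rw [hbot i hi]
      exact bot_le
    | succ j ih =>
      intro i hi hn'
      exact key i hi (ih (i + 1) (by omega) (by omega))
  have := all n 1 le_rfl (by omega)
  rwa [Subgroup.lowerCentralSeries_succ] at this

theorem comm_mem {x y : G} (hx : x ∈ fitIn C) (hy : y ∈ fitIn C) : x * y * x⁻¹ * y⁻¹ ∈ A :=
  S.commutator_le (commutatorElement_def x y ▸ commutator_mem_commutator hx hy)

theorem comm_right {x y z : G} (hx : x ∈ fitIn C) (hy : y ∈ fitIn C) (hz : z ∈ fitIn C) :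
    x * (y * z) * x⁻¹ * (y * z)⁻¹ = (x * y * x⁻¹ * y⁻¹) * (x * z * x⁻¹ * z⁻¹) :=
  comm_mul_right rfl (S.central_fit (S.comm_mem hx hz) hy).symm

omit S [Finite G] in
theorem comm_inv {x y : G} : (x * y * x⁻¹ * y⁻¹)⁻¹ = y * x * y⁻¹ * x⁻¹ := by group

theorem comm_left {x y z : G} (hx : x ∈ fitIn C) (hy : y ∈ fitIn C) (hz : z ∈ fitIn C) :
    (x * y) * z * (x * y)⁻¹ * z⁻¹ = (x * z * x⁻¹ * z⁻¹) * (y * z * y⁻¹ * z⁻¹) := by
  have h := S.comm_right hz hx hy
  calc (x * y) * z * (x * y)⁻¹ * z⁻¹ = (z * (x * y) * z⁻¹ * (x * y)⁻¹)⁻¹ := comm_inv.symm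
    _ = ((z * x * z⁻¹ * x⁻¹) * (z * y * z⁻¹ * y⁻¹))⁻¹ := by rw [h]
    _ = ((z * y * z⁻¹ * y⁻¹) * (z * x * z⁻¹ * x⁻¹))⁻¹ := by
        rw [S.central _ (S.comm_mem hz hx) _ (fitIn_le C (S.A_le_fit (S.comm_mem hz hy)))]
    _ = _ := by rw [mul_inv_rev, comm_inv, comm_inv]

theorem comm_pow_right {x y : G} (hx : x ∈ fitIn C) (hy : y ∈ fitIn C) (m : ℕ) :
    x * y ^ m * x⁻¹ * (y ^ m)⁻¹ = (x * y * x⁻¹ * y⁻¹) ^ m := by
  induction m with
  | zero => simp
  | succ m ih => rw [pow_succ, S.comm_right hx (pow_mem hy m) hy, ih, pow_succ]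

theorem comm_pow_left {x y : G} (hx : x ∈ fitIn C) (hy : y ∈ fitIn C) (m : ℕ) :
    x ^ m * y * (x ^ m)⁻¹ * y⁻¹ = (x * y * x⁻¹ * y⁻¹) ^ m := by
  induction m with
  | zero => simp
  | succ m ih => rw [pow_succ, S.comm_left (pow_mem hx m) hx hy, ih, pow_succ]

theorem pow_mul_mem {x y : G} (hx : x ∈ fitIn C) (hy : y ∈ fitIn C) {n : ℕ} (hxn : x ^ n ∈ A)
    (hyn : y ^ n ∈ A) : (x * y) ^ n ∈ A := by
  haveI := S.A_normal
  let f := (QuotientGroup.mk' A)
  have hc : Commute (f x) (f y) := by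
    show f x * f y = f y * f x
    rw [← map_mul, ← map_mul]
    refine (QuotientGroup.eq_iff_div_mem).2 ?_
    rw [div_eq_mul_inv, mul_inv_rev, ← mul_assoc]
    exact S.comm_mem hx hy
  rw [← QuotientGroup.eq_one_iff, QuotientGroup.mk_pow, QuotientGroup.mk_mul]
  have h1 : f x ^ n = 1 := by rw [← map_pow]; exact (QuotientGroup.eq_one_iff _).2 hxn
  have h2 : f y ^ n = 1 := by rw [← map_pow]; exact (QuotientGroup.eq_one_iff _).2 hyn
  exact (hc.mul_pow n).trans (by rw [h1, h2, one_mul])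

/-- Elements of the Fitting subgroup whose `n`-th power lies in `A`. -/
noncomputable def powSub (n : ℕ) : Subgroup G where
  carrier := {x | x ∈ fitIn C ∧ x ^ n ∈ A}
  one_mem' := ⟨one_mem _, by rw [one_pow]; exact one_mem _⟩
  mul_mem' := fun hx hy => ⟨mul_mem hx.1 hy.1, S.pow_mul_mem hx.1 hy.1 hx.2 hy.2⟩
  inv_mem' := fun hx => ⟨inv_mem hx.1, by rw [inv_pow]; exact inv_mem hx.2⟩

theorem powSub_normal (n : ℕ) : (S.powSub n).Normal :=
  ⟨fun x hx g => ⟨S.fit_normal.conj_mem x hx.1 g, by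
    rw [conj_pow]; exact S.A_normal.conj_mem _ hx.2 g⟩⟩

theorem powSub_le_fit (n : ℕ) : S.powSub n ≤ fitIn C := fun _ h => h.1

theorem A_le_powSub (n : ℕ) : A ≤ S.powSub n := fun _ h => ⟨S.A_le_fit h, pow_mem h n⟩

theorem sqfree {x : G} (hx : x ∈ fitIn C) {p : ℕ} (h : x ^ (p * p) ∈ A) : x ^ p ∈ A := by
  haveI := S.A_normal
  haveI := S.powSub_normal (p * p)
  let M : Subgroup G := Subgroup.normalClosure {y | ∃ z ∈ S.powSub (p * p), z ^ p = y}
  refine S.maximal M normalClosure_normal ?_ ?_ (subset_normalClosure ⟨x, ⟨hx, h⟩, rfl⟩)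
  · haveI := S.C_normal
    refine normalClosure_le_normal ?_
    rintro _ ⟨z, hz, rfl⟩
    exact fitIn_le C (pow_mem hz.1 p)
  · have hcomm : ∀ a ∈ Group.conjugatesOfSet {y | ∃ z ∈ S.powSub (p * p), z ^ p = y},
        ∀ b ∈ Group.conjugatesOfSet {y | ∃ z ∈ S.powSub (p * p), z ^ p = y}, a * b = b * a := by
      have hform : ∀ a ∈ Group.conjugatesOfSet {y | ∃ z ∈ S.powSub (p * p), z ^ p = y},
          ∃ z ∈ S.powSub (p * p), z ^ p = a := by
        intro a ha
        obtain ⟨_, ⟨z, hz, rfl⟩, hconj⟩ := Group.mem_conjugatesOfSet_iff.1 ha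
        obtain ⟨g, hg⟩ := isConj_iff.1 hconj
        exact ⟨g * z * g⁻¹, (S.powSub_normal _).conj_mem z hz g, by rw [conj_pow, hg]⟩
      intro a ha b hb
      obtain ⟨z, hz, rfl⟩ := hform a ha
      obtain ⟨w, hw, rfl⟩ := hform b hb
      have e1 := S.comm_pow_left hz.1 (pow_mem hw.1 p) p
      rw [S.comm_pow_right hz.1 hw.1 p, ← pow_mul] at e1
      have e2 := S.comm_pow_left hz.1 hw.1 (p * p)
      have e3 : z ^ (p * p) * w * (z ^ (p * p))⁻¹ * w⁻¹ = 1 := by
        rw [S.central_fit hz.2 hw.1, mul_inv_cancel_right, mul_inv_cancel]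
      rw [e3] at e2
      rw [← e2] at e1
      rwa [mul_inv_eq_one, mul_inv_eq_iff_eq_mul] at e1
    intro a ha b hb
    have hle : M ≤ centralizer (M : Set G) :=
      (closure_le _).2 fun c hc => mem_centralizer_iff.2 fun d hd => by
        have hd' : M ≤ centralizer {c} := (closure_le _).2 fun e he =>
          mem_centralizer_singleton_iff.2 (hcomm e he c hc)
        exact mem_centralizer_singleton_iff.1 (hd' hd)
    exact mem_centralizer_iff.1 (hle hb) a ha

theorem fit_le_of_powSub_le (T : Subgroup G) (hA : A ≤ T)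
    (hp : ∀ p : ℕ, p.Prime → S.powSub p ≤ T) : fitIn C ≤ T := by
  suffices h : ∀ n : ℕ, 0 < n → ∀ x ∈ fitIn C, x ^ n ∈ A → x ∈ T by
    intro x hx
    exact h (orderOf x) (orderOf_pos x) x hx (by rw [pow_orderOf_eq_one]; exact one_mem _)
  intro n
  induction n using Nat.strong_induction_on with
  | _ n ih =>
    intro hn x hx hxn
    rcases eq_or_ne n 1 with rfl | hn1
    · exact hA (by simpa using hxn)
    obtain ⟨m, hm⟩ := Nat.minFac_dvd n
    have hpp : n.minFac.Prime := Nat.minFac_prime hn1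
    generalize n.minFac = p at hm hpp
    subst hm
    have hm0 : 0 < m := Nat.pos_of_ne_zero fun h => by simp [h] at hn
    have hmlt : m < p * m := lt_mul_left hm0 hpp.one_lt
    by_cases hpm : p ∣ m
    · obtain ⟨l, rfl⟩ := hpm
      refine ih (p * l) hmlt hm0 x hx ?_
      rw [mul_comm, pow_mul]
      refine S.sqfree (pow_mem hx l) ?_
      rw [← pow_mul, mul_comm, mul_assoc]
      exact hxn
    · have hcop : Nat.Coprime p m := hpp.coprime_iff_not_dvd.2 hpm
      have h1 : x ^ m ∈ T := hp p hpp ⟨pow_mem hx m, by rwa [← pow_mul, mul_comm]⟩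
      have h2 : x ^ p ∈ T := ih m hmlt hm0 (x ^ p) (pow_mem hx p) (by rwa [← pow_mul])
      obtain ⟨u, v, huv⟩ := Int.isCoprime_iff_gcd_eq_one.2 (by simpa [Int.gcd_natCast_natCast] using
        hcop : Int.gcd (p : ℤ) (m : ℤ) = 1)
      have e : x = (x ^ p) ^ u * (x ^ m) ^ v := by
        rw [← zpow_natCast x p, ← zpow_natCast x m, ← zpow_mul, ← zpow_mul, ← zpow_add,
          mul_comm (p : ℤ), mul_comm (m : ℤ), huv, zpow_one]
      rw [e]
      exact mul_mem (zpow_mem h2 u) (zpow_mem h1 v)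

theorem mem_fit_of_centralizes {g : G} (hg : g ∈ C)
    (h : ∀ y ∈ fitIn C, g * y = y * g) : g ∈ fitIn C := by
  haveI := S.solv
  have hle := H1.centralizer_fitting_le_of_isSolvable (G := C) inferInstance
  refine ⟨⟨g, hg⟩, hle (mem_centralizer_iff.2 fun y hy => Subtype.ext ?_), rfl⟩
  exact (h y ⟨y, hy, rfl⟩).symm

end Setting

end H33.SolvLin
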