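import Mathlib
import Cfsg.Agent.H33.SolvLin.Heis

/-!
# Representatives of the Fitting subgroup modulo the scalars are linearly independent
-/

set_option autoImplicit false

namespace H33.SolvLin

open Module

variable {G : Type} [Group G] [Finite G] {C A : Subgroup G}

theorem Setting.card_le_sq (S : Setting C A) {K V : Type} [Field K] [AddCommGroup V] [Module K V]
    [FiniteDimensional K V] [Nontrivial V] (φ : C →* Module.End K V) (hφ : Function.Injective φ)
    (hscal : ∀ (a : G) (ha : a ∈ A), ∃ c : K, φ ⟨a, S.A_le ha⟩ = c • (1 : Module.End K V)) :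
    A.relIndex (fitIn C) ≤ finrank K V * finrank K V := by
  classical
  choose s hs using hscal
  obtain ⟨v₀, hv₀⟩ := exists_ne (0 : V)
  have huniq : ∀ c d : K, c • (1 : Module.End K V) = d • (1 : Module.End K V) → c = d := by
    intro c d h
    have := LinearMap.congr_fun h v₀
    simp only [LinearMap.smul_apply, Module.End.one_apply] at this
    exact smul_left_injective K hv₀ this
  have smul' : ∀ a b (ha : a ∈ A) (hb : b ∈ A), s (a * b) (mul_mem ha hb) = s a ha * s b hb := by
    intro a b ha hb
    apply huniq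
    rw [← hs, show (⟨a * b, S.A_le (mul_mem ha hb)⟩ : C) = ⟨a, S.A_le ha⟩ * ⟨b, S.A_le hb⟩ from rfl,
      map_mul, hs a ha, hs b hb, smul_mul_assoc, one_mul, smul_smul]
  have sinj : ∀ a b (ha : a ∈ A) (hb : b ∈ A), s a ha = s b hb → a = b := by
    intro a b ha hb h
    have := hφ ((hs a ha).trans ((congrArg (fun c : K => c • (1 : Module.End K V)) h).trans (hs b hb).symm))
    exact congrArg Subtype.val this
  let W := fitIn C ⧸ A.subgroupOf (fitIn C)
  let x : W → G := fun w => (w.out : fitIn C)
  have hx : ∀ w, x w ∈ fitIn C := fun w => (w.out : fitIn C).2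
  let X : W → Module.End K V := fun w => φ ⟨x w, fitIn_le C (hx w)⟩
  let c : ∀ _w : W, ∀ _y : fitIn C, G := fun w y => (y : G) * x w * (y : G)⁻¹ * (x w)⁻¹
  have hc : ∀ w y, c w y ∈ A := fun w y => S.comm_mem y.2 (hx w)
  let χ : W → (fitIn C →* K) := fun w =>
    { toFun := fun y => s (c w y) (hc w y)
      map_one' := by
        apply huniq
        rw [← hs, one_smul, ← map_one φ]
        exact congrArg φ (Subtype.ext (by simp [c]))
      map_mul' := fun y z => by
        rw [← smul' _ _ (hc w y) (hc w z)]
        congr 1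
        exact S.comm_left y.2 z.2 (hx w) }
  have hχ : Function.Injective χ := by
    intro w v h
    have key : ∀ y : fitIn C, c w y = c v y := fun y =>
      sinj _ _ (hc w y) (hc v y) (DFunLike.congr_fun h y)
    have hmem : (x w)⁻¹ * x v ∈ A := by
      refine S.mem_A_of_central (mul_mem (inv_mem (hx w)) (hx v)) fun y hy => ?_
      have h1 := S.comm_right hy (hx w) (mul_mem (inv_mem (hx w)) (hx v))
      rw [mul_inv_cancel_left] at h1
      have h2 : y * x v * y⁻¹ * (x v)⁻¹ = y * x w * y⁻¹ * (x w)⁻¹ := (key ⟨y, hy⟩).symm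
      rw [h2, left_eq_mul, mul_inv_eq_one, mul_inv_eq_iff_eq_mul] at h1
      exact h1.symm
    rw [← w.out_eq, ← v.out_eq]
    exact QuotientGroup.eq.2 (Subgroup.mem_subgroupOf.2 hmem)
  have hind : LinearIndependent K fun w : W => X w := by
    haveI : Fintype W := Fintype.ofFinite _
    rw [Fintype.linearIndependent_iff]
    intro a ha w
    have hzero : ∀ (f : V →ₗ[K] K) (v : V), a w * f (X w v) = 0 := by
      intro f v
      have hLI := (linearIndependent_monoidHom (fitIn C) K).comp χ hχ
      rw [Fintype.linearIndependent_iff] at hLI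
      refine hLI (fun u => a u * f (X u v)) ?_ w
      funext y
      have hy : ∑ u, (a u * s (c u y) (hc u y)) • X u = 0 := by
        have e : ∀ u, φ ⟨y, fitIn_le C y.2⟩ * X u * φ ⟨(y : G)⁻¹, fitIn_le C (inv_mem y.2)⟩ =
            s (c u y) (hc u y) • X u := by
          intro u
          have e0 : (⟨y, fitIn_le C y.2⟩ : C) * ⟨x u, fitIn_le C (hx u)⟩ *
              ⟨(y : G)⁻¹, fitIn_le C (inv_mem y.2)⟩ =
              ⟨c u y, S.A_le (hc u y)⟩ * ⟨x u, fitIn_le C (hx u)⟩ := Subtype.ext (by
            simp [c])
          rw [← map_mul, ← map_mul, e0, map_mul, hs, smul_mul_assoc, one_mul]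
        have := congrArg
          (fun T => φ ⟨y, fitIn_le C y.2⟩ * T * φ ⟨(y : G)⁻¹, fitIn_le C (inv_mem y.2)⟩) ha
        simp only [Finset.mul_sum, Finset.sum_mul, mul_zero, zero_mul, mul_smul_comm,
          smul_mul_assoc, e, smul_smul] at this
        exact this
      have := congrArg (fun T : Module.End K V => f (T v)) hy
      simp only [LinearMap.sum_apply, LinearMap.smul_apply, map_sum, map_smul, smul_eq_mul,
        LinearMap.zero_apply, map_zero] at this
      simp only [Function.comp_apply, Finset.sum_apply, Pi.smul_apply, smul_eq_mul, Pi.zero_apply]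
      rw [← this]
      refine Finset.sum_congr rfl fun u _ => ?_
      show a u * f (X u v) * s (c u y) (hc u y) = _
      ring
    by_contra haw
    have hX0 : X w = 0 := by
      refine LinearMap.ext fun v => ?_
      rw [LinearMap.zero_apply, ← Module.forall_dual_apply_eq_zero_iff K]
      intro f
      exact (mul_eq_zero.1 (hzero f v)).resolve_left haw
    have h1 : φ ⟨x w, fitIn_le C (hx w)⟩ * φ ⟨x w, fitIn_le C (hx w)⟩⁻¹ = 1 := by
      rw [← map_mul, mul_inv_cancel, map_one]
    rw [show φ ⟨x w, fitIn_le C (hx w)⟩ = X w from rfl, hX0, zero_mul] at h1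
    exact hv₀ (by simpa using (LinearMap.congr_fun h1 v₀).symm)
  haveI : Fintype W := Fintype.ofFinite _
  have h := hind.fintype_card_le_finrank
  rw [Module.finrank_linearMap, ← Nat.card_eq_fintype_card] at h
  exact h

end H33.SolvLin
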