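import Mathlib
import Cfsg.Agent.H33.SolvLin.Heis

/-!
# The symplectic spaces inside the Fitting subgroup modulo `A`
-/

set_option autoImplicit false

namespace H33.SolvLin

open Subgroup

variable {G : Type} [Group G] [Finite G] {C A : Subgroup G}

namespace Setting

variable (S : Setting C A) (p : ℕ) [hp : Fact p.Prime]

instance powA_normal : (A.subgroupOf (S.powSub p)).Normal := by
  haveI := S.A_normal
  infer_instance

/-- The `p`-part of `fitIn C / A`. -/
abbrev Wt : Type := ↥(S.powSub p) ⧸ A.subgroupOf (S.powSub p)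

noncomputable instance wtCommGroup : CommGroup (S.Wt p) :=
  { QuotientGroup.Quotient.group _ with
    mul_comm := by
      intro u v
      induction u using QuotientGroup.induction_on with
      | H x =>
        induction v using QuotientGroup.induction_on with
        | H y =>
          refine QuotientGroup.eq.2 (Subgroup.mem_subgroupOf.2 ?_)
          have h := S.comm_mem (inv_mem y.2.1) (inv_mem x.2.1)
          simpa [mul_assoc] using h }

noncomputable instance wtModule : Module (ZMod p) (Additive (S.Wt p)) :=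
  AddCommGroup.zmodModule fun u => by
    refine Additive.toMul.injective ?_
    rw [toMul_nsmul, toMul_zero]
    induction u.toMul using QuotientGroup.induction_on with
    | H x =>
      rw [← QuotientGroup.mk_pow, QuotientGroup.eq_one_iff]
      exact Subgroup.mem_subgroupOf.2 x.2.2

/-- The part of `A` of exponent `p`. -/
noncomputable def omega : Subgroup A where
  carrier := {a | a ^ p = 1}
  one_mem' := one_pow p
  mul_mem' := fun {a b} ha hb => by
    have hc : Commute a b := Subtype.ext (S.central a a.2 b (S.A_le b.2))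
    show (a * b) ^ p = 1
    rw [hc.mul_pow, ha, hb, one_mul]
  inv_mem' := fun {a} ha => by
    show a⁻¹ ^ p = 1
    rw [inv_pow, ha, inv_one]

theorem exists_emb : ∃ ι : S.omega p →* Multiplicative (ZMod p), Function.Injective ι := by
  haveI := S.cyclic
  haveI : IsCyclic (S.omega p) := inferInstance
  have hdvd : Nat.card (S.omega p) ∣ p := by
    rw [← IsCyclic.exponent_eq_card]
    exact Monoid.exponent_dvd_of_forall_pow_eq_one fun a => Subtype.ext a.2
  rcases (Nat.dvd_prime hp.out).1 hdvd with h | h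
  · haveI := (Nat.card_eq_one_iff_unique.1 h).1
    exact ⟨1, fun a b _ => Subsingleton.elim a b⟩
  · exact ⟨(mulEquivOfCyclicCardEq (G := S.omega p) (G' := Multiplicative (ZMod p))
      (by rw [h, Nat.card_congr Multiplicative.toAdd, Nat.card_zmod])).toMonoidHom,
      MulEquiv.injective _⟩

/-- A chosen embedding of the exponent-`p` part of `A`. -/
noncomputable def emb : S.omega p →* Multiplicative (ZMod p) := (S.exists_emb p).choose

theorem emb_injective : Function.Injective (S.emb p) := (S.exists_emb p).choose_spec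

/-- The commutator of two elements of `powSub p`, in the exponent-`p` part of `A`. -/
noncomputable def cOmega (x y : S.powSub p) : S.omega p :=
  ⟨⟨(x : G) * y * (x : G)⁻¹ * (y : G)⁻¹, S.comm_mem x.2.1 y.2.1⟩, Subtype.ext (by
    show ((x : G) * y * (x : G)⁻¹ * (y : G)⁻¹) ^ p = 1
    rw [← S.comm_pow_left x.2.1 y.2.1, S.central_fit x.2.2 y.2.1, mul_inv_cancel_right,
      mul_inv_cancel])⟩

theorem cOmega_right (x y z : S.powSub p) :
    S.cOmega p x (y * z) = S.cOmega p x y * S.cOmega p x z :=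
  Subtype.ext (Subtype.ext (S.comm_right x.2.1 y.2.1 z.2.1))

theorem cOmega_left (x y z : S.powSub p) :
    S.cOmega p (x * y) z = S.cOmega p x z * S.cOmega p y z :=
  Subtype.ext (Subtype.ext (S.comm_left x.2.1 y.2.1 z.2.1))

theorem cOmega_A_right (x y : S.powSub p) (hy : (y : G) ∈ A) : S.cOmega p x y = 1 :=
  Subtype.ext (Subtype.ext (by
    show (x : G) * y * (x : G)⁻¹ * (y : G)⁻¹ = 1
    rw [← S.central_fit hy x.2.1, mul_inv_cancel_right, mul_inv_cancel]))

theorem cOmega_A_left (x y : S.powSub p) (hx : (x : G) ∈ A) : S.cOmega p x y = 1 :=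
  Subtype.ext (Subtype.ext (by
    show (x : G) * y * (x : G)⁻¹ * (y : G)⁻¹ = 1
    rw [S.central_fit hx y.2.1, mul_inv_cancel_right, mul_inv_cancel]))

/-- The pairing, multiplicatively. -/
noncomputable def pairing : S.Wt p →* (S.Wt p →* Multiplicative (ZMod p)) :=
  QuotientGroup.lift _
    (MonoidHom.mk'
      (fun x => QuotientGroup.lift _
        (MonoidHom.mk' (fun y => S.emb p (S.cOmega p x y))
          fun y z => by rw [cOmega_right, map_mul])
        (fun y hy => MonoidHom.mem_ker.2 (by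
          show S.emb p (S.cOmega p x y) = 1
          rw [S.cOmega_A_right p x y (Subgroup.mem_subgroupOf.1 hy), map_one])))
      (fun x y => MonoidHom.ext fun w => by
        induction w using QuotientGroup.induction_on with
        | H z =>
          show S.emb p (S.cOmega p (x * y) z) = _
          rw [cOmega_left, map_mul]
          rfl))
    (fun x hx => MonoidHom.mem_ker.2 (MonoidHom.ext fun w => by
      induction w using QuotientGroup.induction_on with
      | H z =>
        show S.emb p (S.cOmega p x z) = 1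
        rw [S.cOmega_A_left p x z (Subgroup.mem_subgroupOf.1 hx), map_one]))

theorem pairing_mk (x y : S.powSub p) :
    S.pairing p (x : S.Wt p) (y : S.Wt p) = S.emb p (S.cOmega p x y) := rfl

/-- The alternating form. -/
noncomputable def form : LinearMap.BilinForm (ZMod p) (Additive (S.Wt p)) :=
  AddMonoidHom.toZModLinearMap p
    (AddMonoidHom.mk'
      (fun u => AddMonoidHom.toZModLinearMap p
        (AddMonoidHom.mk' (fun v => (S.pairing p u.toMul v.toMul).toAdd)
          fun v w => by rw [toMul_add, map_mul, toAdd_mul]))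
      fun u u' => LinearMap.ext fun v => by
        show (S.pairing p (u + u').toMul v.toMul).toAdd = _
        rw [toMul_add, map_mul, MonoidHom.mul_apply, toAdd_mul]
        rfl)

theorem form_mk (x y : S.powSub p) :
    S.form p (Additive.ofMul (x : S.Wt p)) (Additive.ofMul (y : S.Wt p)) =
      (S.emb p (S.cOmega p x y)).toAdd := rfl

theorem exists_rep (u : Additive (S.Wt p)) :
    ∃ x : S.powSub p, Additive.ofMul (x : S.Wt p) = u :=
  ⟨u.toMul.out, by rw [QuotientGroup.out_eq']; rfl⟩

theorem form_eq_zero_iff (x y : S.powSub p) :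
    S.form p (Additive.ofMul (x : S.Wt p)) (Additive.ofMul (y : S.Wt p)) = 0 ↔
      (x : G) * y = y * x := by
  rw [form_mk, toAdd_eq_zero, ← map_one (S.emb p), (S.emb_injective p).eq_iff]
  simp only [cOmega, Subtype.ext_iff]
  show (x : G) * y * (x : G)⁻¹ * (y : G)⁻¹ = 1 ↔ _
  rw [mul_inv_eq_one, mul_inv_eq_iff_eq_mul]

theorem form_alt : (S.form p).IsAlt := by
  intro u
  obtain ⟨x, rfl⟩ := S.exists_rep p u
  exact (S.form_eq_zero_iff p x x).2 rfl

theorem form_nondeg (u : Additive (S.Wt p)) (h : ∀ v, S.form p u v = 0) : u = 0 := by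
  haveI := S.A_normal
  obtain ⟨x, rfl⟩ := S.exists_rep p u
  refine ofMul_eq_zero.2 ((QuotientGroup.eq_one_iff _).2 (Subgroup.mem_subgroupOf.2 ?_))
  refine S.mem_A_of_central x.2.1 fun y hy => ?_
  have hle : fitIn C ≤ centralizer {(x : G)} := by
    refine S.fit_le_of_powSub_le _ (fun a ha => mem_centralizer_singleton_iff.2
      (S.central_fit ha x.2.1)) fun q hq y hy => mem_centralizer_singleton_iff.2 ?_
    rcases eq_or_ne q p with rfl | hqp
    · exact ((S.form_eq_zero_iff q x ⟨y, hy⟩).1 (h _)).symm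
    · have h1 : ((x : G) * y * (x : G)⁻¹ * y⁻¹) ^ p = 1 := by
        rw [← S.comm_pow_left x.2.1 hy.1, S.central_fit x.2.2 hy.1, mul_inv_cancel_right,
          mul_inv_cancel]
      have h2 : ((x : G) * y * (x : G)⁻¹ * y⁻¹) ^ q = 1 := by
        rw [← S.comm_pow_right x.2.1 hy.1, ← S.central_fit hy.2 x.2.1, mul_inv_cancel_right,
          mul_inv_cancel]
      have h3 : ((x : G) * y * (x : G)⁻¹ * y⁻¹) = 1 := by
        rw [← orderOf_eq_one_iff, ← Nat.dvd_one,
          ← ((Nat.coprime_primes hp.out hq).2 (Ne.symm hqp)).gcd_eq_one]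
        exact Nat.dvd_gcd (orderOf_dvd_of_pow_eq_one h1) (orderOf_dvd_of_pow_eq_one h2)
      rw [mul_inv_eq_one, mul_inv_eq_iff_eq_mul] at h3
      exact h3.symm
  exact (mem_centralizer_singleton_iff.1 (hle hy)).symm

/-- Conjugation on `powSub p`. -/
noncomputable def conjPow (g : G) : S.powSub p →* S.powSub p :=
  MonoidHom.mk' (fun x => ⟨g * x * g⁻¹, (S.powSub_normal p).conj_mem x x.2 g⟩)
    fun x y => Subtype.ext (by simp [mul_assoc])

/-- Conjugation on the space. -/
noncomputable def conjWt (g : G) : S.Wt p →* S.Wt p :=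
  QuotientGroup.map _ _ (S.conjPow p g) fun x hx =>
    Subgroup.mem_comap.2 (Subgroup.mem_subgroupOf.2
      (S.A_normal.conj_mem _ (Subgroup.mem_subgroupOf.1 hx) g))

/-- The action of the group. -/
noncomputable def act : G →* Module.End (ZMod p) (Additive (S.Wt p)) where
  toFun g := AddMonoidHom.toZModLinearMap p (MonoidHom.toAdditive (S.conjWt p g))
  map_one' := LinearMap.ext fun u => by
    obtain ⟨x, rfl⟩ := S.exists_rep p u
    exact congrArg (fun z : S.powSub p => Additive.ofMul (z : S.Wt p))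
      (Subtype.ext (show (1 : G) * x * (1 : G)⁻¹ = x by simp))
  map_mul' g h := LinearMap.ext fun u => by
    obtain ⟨x, rfl⟩ := S.exists_rep p u
    exact congrArg (fun z : S.powSub p => Additive.ofMul (z : S.Wt p))
      (Subtype.ext (show (g * h) * x * (g * h)⁻¹ = g * (h * x * h⁻¹) * g⁻¹ by group))

theorem act_mk (g : G) (x : S.powSub p) :
    S.act p g (Additive.ofMul (x : S.Wt p)) =
      Additive.ofMul ((S.conjPow p g x : S.powSub p) : S.Wt p) := rfl

theorem act_isometry {g : G} (hg : g ∈ C) (u v : Additive (S.Wt p)) :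
    S.form p (S.act p g u) (S.act p g v) = S.form p u v := by
  obtain ⟨x, rfl⟩ := S.exists_rep p u
  obtain ⟨y, rfl⟩ := S.exists_rep p v
  rw [act_mk, act_mk, form_mk, form_mk]
  congr 2
  refine Subtype.ext (Subtype.ext ?_)
  show g * x * g⁻¹ * (g * y * g⁻¹) * (g * x * g⁻¹)⁻¹ * (g * y * g⁻¹)⁻¹ = _
  calc _ = g * ((x : G) * y * (x : G)⁻¹ * (y : G)⁻¹) * g⁻¹ := by group
    _ = ((x : G) * y * (x : G)⁻¹ * (y : G)⁻¹) := by
      rw [← S.central _ (S.comm_mem x.2.1 y.2.1) g hg, mul_inv_cancel_right]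

theorem act_similitude (g : G) : ∃ c : ZMod p, ∀ u v,
    S.form p (S.act p g u) (S.act p g v) = c * S.form p u v := by
  haveI := S.A_normal
  haveI := S.cyclic
  let σ : A →* A := MonoidHom.mk' (fun a => ⟨g * a * g⁻¹, S.A_normal.conj_mem a a.2 g⟩)
    fun a b => Subtype.ext (by simp [mul_assoc])
  obtain ⟨m, hm⟩ := σ.map_cyclic
  refine ⟨(m : ZMod p), fun u v => ?_⟩
  obtain ⟨x, rfl⟩ := S.exists_rep p u
  obtain ⟨y, rfl⟩ := S.exists_rep p v
  rw [act_mk, act_mk, form_mk, form_mk]
  have e : S.cOmega p (S.conjPow p g x) (S.conjPow p g y) = S.cOmega p x y ^ m := by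
    refine Subtype.ext ((?_ : _ = σ (S.cOmega p x y).1).trans (hm _))
    refine Subtype.ext ?_
    show g * x * g⁻¹ * (g * y * g⁻¹) * (g * x * g⁻¹)⁻¹ * (g * y * g⁻¹)⁻¹ =
      g * ((x : G) * y * (x : G)⁻¹ * (y : G)⁻¹) * g⁻¹
    group
  rw [e, map_zpow, toAdd_zpow, zsmul_eq_mul]

theorem act_invariant (U : Submodule (ZMod p) (Additive (S.Wt p)))
    (hU : ∀ g, ∀ u ∈ U, S.act p g u ∈ U) :
    ∀ u ∈ U, (∀ v ∈ U, S.form p u v = 0) → u = 0 := by
  haveI := S.A_normal
  intro u hu hrad
  let N : Subgroup G :=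
    { carrier := {x | ∃ h : x ∈ S.powSub p, Additive.ofMul ((⟨x, h⟩ : S.powSub p) : S.Wt p) ∈ U ∧
        ∀ v ∈ U, S.form p (Additive.ofMul ((⟨x, h⟩ : S.powSub p) : S.Wt p)) v = 0}
      one_mem' := ⟨one_mem _, U.zero_mem, fun v _ => by
        rw [show Additive.ofMul ((⟨1, one_mem _⟩ : S.powSub p) : S.Wt p) = 0 from rfl, map_zero,
          LinearMap.zero_apply]⟩
      mul_mem' := by
        rintro a b ⟨ha, ha1, ha2⟩ ⟨hb, hb1, hb2⟩
        refine ⟨mul_mem ha hb, U.add_mem ha1 hb1, fun v hv => ?_⟩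
        rw [show Additive.ofMul ((⟨a * b, mul_mem ha hb⟩ : S.powSub p) : S.Wt p) =
          Additive.ofMul ((⟨a, ha⟩ : S.powSub p) : S.Wt p) +
            Additive.ofMul ((⟨b, hb⟩ : S.powSub p) : S.Wt p) from rfl, map_add,
          LinearMap.add_apply, ha2 v hv, hb2 v hv, add_zero]
      inv_mem' := by
        rintro a ⟨ha, ha1, ha2⟩
        refine ⟨inv_mem ha, U.neg_mem ha1, fun v hv => ?_⟩
        rw [show Additive.ofMul ((⟨a⁻¹, inv_mem ha⟩ : S.powSub p) : S.Wt p) =
          - Additive.ofMul ((⟨a, ha⟩ : S.powSub p) : S.Wt p) from rfl, map_neg,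
          LinearMap.neg_apply, ha2 v hv, neg_zero] }
  have hNn : N.Normal := by
    refine ⟨?_⟩
    rintro x ⟨hx, hx1, hx2⟩ g
    refine ⟨(S.powSub_normal p).conj_mem x hx g, ?_, fun v hv => ?_⟩
    · exact hU g _ hx1
    · show S.form p (S.act p g (Additive.ofMul ((⟨x, hx⟩ : S.powSub p) : S.Wt p))) v = 0
      obtain ⟨c, hc⟩ := S.act_similitude p g
      have e : v = S.act p g (S.act p g⁻¹ v) := by
        rw [← Module.End.mul_apply, ← map_mul, mul_inv_cancel, map_one, Module.End.one_apply]
      rw [e, hc, hx2 _ (hU _ v hv), mul_zero]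
  obtain ⟨x, rfl⟩ := S.exists_rep p u
  have hxN : (x : G) ∈ N := ⟨x.2, hu, hrad⟩
  have hxA : (x : G) ∈ A := by
    refine S.maximal N hNn ?_ ?_ hxN
    · rintro a ⟨ha, -, -⟩
      exact fitIn_le C ha.1
    · rintro a ⟨ha, ha1, ha2⟩ b ⟨hb, hb1, -⟩
      exact (S.form_eq_zero_iff p ⟨a, ha⟩ ⟨b, hb⟩).1 (ha2 _ hb1)
  exact ofMul_eq_zero.2 ((QuotientGroup.eq_one_iff _).2 (Subgroup.mem_subgroupOf.2 hxA))

end Setting

end H33.SolvLin
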