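import Mathlib
import Cfsg.Agent.H33.SolvLin.Class
import Cfsg.Agent.H33.SolvLin.Pair
import Cfsg.Agent.H33.SolvLin.Indep
import Cfsg.Agent.H43.Forms

/-!
# The class numbers of subgroups of `C / F(C)`
-/

set_option autoImplicit false

namespace H33.SolvLin

open Subgroup Module

/-- The isometries inside a group acting on a space with a bilinear form. -/
def isoSub {p : ℕ} {W L : Type} [AddCommGroup W] [Module (ZMod p) W] [Group L]
    (B : LinearMap.BilinForm (ZMod p) W) (ρ : L →* Module.End (ZMod p) W) : Subgroup L where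
  carrier := {g | ∀ u v, B (ρ g u) (ρ g v) = B u v}
  one_mem' := fun u v => by rw [map_one]; rfl
  mul_mem' := fun {g h} hg hh u v => by
    rw [map_mul, Module.End.mul_apply, Module.End.mul_apply, hg, hh]
  inv_mem' := fun {g} hg u v => by
    have h := hg (ρ g⁻¹ u) (ρ g⁻¹ v)
    simp only [← Module.End.mul_apply, ← map_mul, mul_inv_cancel, map_one] at h
    exact h.symm

/-- The bound on the isometries in a solvable group of similitudes of a `2k`-dimensional
symplectic space over the field with `p` elements all whose invariant subspaces are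
non-degenerate. -/
def SympBound (p k : ℕ) : Prop :=
  ∀ [Fact p.Prime] (W L : Type) [AddCommGroup W] [Module (ZMod p) W] [Finite W] [Group L]
    [Finite L] (B : LinearMap.BilinForm (ZMod p) W) (ρ : L →* Module.End (ZMod p) W),
    B.IsAlt → (∀ u, (∀ v, B u v = 0) → u = 0) → finrank (ZMod p) W = 2 * k →
    Group.IsSolvable L → Function.Injective ρ →
    (∀ g, ∃ c : ZMod p, ∀ u v, B (ρ g u) (ρ g v) = c * B u v) →
    (∀ U : Submodule (ZMod p) W, (∀ g, ∀ u ∈ U, ρ g u ∈ U) →
      ∀ u ∈ U, (∀ v ∈ U, B u v = 0) → u = 0) →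
    CB (isoSub B ρ) (3 ^ (p ^ k - 1))

theorem even_finrank {F V : Type} [Field F] [AddCommGroup V] [Module F V] [FiniteDimensional F V]
    (B : LinearMap.BilinForm F V) (hA : B.IsAlt) (hnd : ∀ u, (∀ v, B u v = 0) → u = 0) :
    ∃ k, finrank F V = 2 * k := by
  obtain ⟨m, k, b, hspan, hmk, -, h2, h3, h4⟩ :=
    H43.exists_symplectic_basis (F := F) (finrank F V) V B hA rfl
  have hli : LinearIndependent F b := linearIndependent_of_top_le_span_of_card_eq_finrank
    hspan.ge (by simp [Fintype.card_sum, hmk])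
  rcases Nat.eq_zero_or_pos k with rfl | hk
  · exact ⟨m, by omega⟩
  · exact absurd (hnd _ (h4 ⟨0, hk⟩)) (hli.ne_zero _)

theorem prod_pow_le {ι : Type} (s : Finset ι) (a : ι → ℕ) (ha : ∀ i ∈ s, 1 ≤ a i) :
    ∑ i ∈ s, (a i - 1) ≤ ∏ i ∈ s, a i - 1 ∧ 1 ≤ ∏ i ∈ s, a i := by
  classical
  induction s using Finset.induction_on with
  | empty => simp
  | insert i s hi ih =>
    obtain ⟨h1, h2⟩ := ih fun j hj => ha j (Finset.mem_insert_of_mem hj)
    have h3 := ha i (Finset.mem_insert_self i s)
    rw [Finset.sum_insert hi, Finset.prod_insert hi]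
    obtain ⟨x, hx⟩ : ∃ x, a i = x + 1 := ⟨a i - 1, by omega⟩
    obtain ⟨y, hy⟩ : ∃ y, ∏ j ∈ s, a j = y + 1 := ⟨(∏ j ∈ s, a j) - 1, by omega⟩
    rw [hy] at h1 ⊢
    rw [hx]
    have e : (x + 1) * (y + 1) = x * y + x + y + 1 := by ring
    omega

variable {G : Type} [Group G] [Finite G] {C A : Subgroup G}

namespace Setting

variable (S : Setting C A) (p : ℕ) [hp : Fact p.Prime]

/-- The inclusion of the `p`-part in the whole quotient. -/
noncomputable def wtIncl (hn : (A.subgroupOf (fitIn C)).Normal) :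
    S.Wt p →* fitIn C ⧸ A.subgroupOf (fitIn C) :=
  haveI := hn
  QuotientGroup.map _ _ (Subgroup.inclusion (S.powSub_le_fit p)) fun x hx =>
    Subgroup.mem_comap.2 (Subgroup.mem_subgroupOf.2 (Subgroup.mem_subgroupOf.1 hx :))

theorem card_wt : Nat.card (S.Wt p) = p ^ (A.relIndex (fitIn C)).factorization p := by
  haveI := S.A_normal
  haveI hn : (A.subgroupOf (fitIn C)).Normal := inferInstance
  have hinj : Function.Injective (S.wtIncl p hn) := by
    rw [injective_iff_map_eq_one]
    intro u hu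
    induction u using QuotientGroup.induction_on with
    | H x =>
      rw [wtIncl, QuotientGroup.map_mk, QuotientGroup.eq_one_iff] at hu
      exact (QuotientGroup.eq_one_iff _).2 (Subgroup.mem_subgroupOf.2
        (Subgroup.mem_subgroupOf.1 hu :))
  set P := (S.wtIncl p hn).range with hP
  have hPp : IsPGroup p P := by
    rintro ⟨_, u, rfl⟩
    refine ⟨1, Subtype.ext ?_⟩
    induction u using QuotientGroup.induction_on with
    | H x =>
      show S.wtIncl p hn (x : S.Wt p) ^ p ^ 1 = 1
      rw [pow_one, ← map_pow, ← QuotientGroup.mk_pow,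
        (QuotientGroup.eq_one_iff _).2 (Subgroup.mem_subgroupOf.2 x.2.2), map_one]
  obtain ⟨Q, hQ⟩ := hPp.exists_le_sylow
  have hQP : (Q : Subgroup _) ≤ P := by
    intro w hw
    obtain ⟨i, hi⟩ := Q.isPGroup' ⟨w, hw⟩
    have hi' : w ^ p ^ i = 1 := congrArg Subtype.val hi
    induction w using QuotientGroup.induction_on with
    | H x =>
      rw [← QuotientGroup.mk_pow, QuotientGroup.eq_one_iff, Subgroup.mem_subgroupOf] at hi'
      have hx : (x : G) ^ p ∈ A := by
        clear hi hw
        induction i with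
        | zero =>
          rw [pow_zero, SubgroupClass.coe_pow, pow_one] at hi'
          exact pow_mem hi' p
        | succ i ih =>
          rcases Nat.eq_zero_or_pos i with rfl | hi0
          · simpa using hi'
          refine ih ?_
          rw [SubgroupClass.coe_pow] at hi' ⊢
          obtain ⟨j, rfl⟩ : ∃ j, i = j + 1 := ⟨i - 1, by omega⟩
          rw [pow_succ, pow_mul]
          refine S.sqfree (pow_mem x.2 _) ?_
          rw [← pow_mul, ← mul_assoc, ← pow_succ, ← pow_succ]
          exact hi'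
      exact ⟨((⟨(x : G), x.2, hx⟩ : S.powSub p) : S.Wt p), rfl⟩
  have hPQ : P = Q := le_antisymm hQ hQP
  rw [Nat.card_congr (MonoidHom.ofInjective hinj).toEquiv, ← hP, hPQ]
  exact Sylow.card_eq_multiplicity Q

theorem finrank_wt : finrank (ZMod p) (Additive (S.Wt p)) =
    (A.relIndex (fitIn C)).factorization p := by
  have h := Module.natCard_eq_pow_finrank (K := ZMod p) (V := Additive (S.Wt p))
  rw [Nat.card_congr Additive.toMul, S.card_wt p, Nat.card_zmod] at h
  exact (Nat.pow_right_injective hp.out.two_le h).symm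

include S in
theorem dvd_card_A (h : (A.relIndex (fitIn C)).factorization p ≠ 0) : p ∣ Nat.card A := by
  haveI : Nontrivial (Additive (S.Wt p)) :=
    Module.nontrivial_of_finrank_pos (R := ZMod p) (by rw [S.finrank_wt p]; omega)
  obtain ⟨u, hu⟩ := exists_ne (0 : Additive (S.Wt p))
  obtain ⟨v, hv⟩ : ∃ v, S.form p u v ≠ 0 := by
    by_contra hcon
    push Not at hcon
    exact hu (S.form_nondeg p u hcon)
  obtain ⟨x, rfl⟩ := S.exists_rep p u
  obtain ⟨y, rfl⟩ := S.exists_rep p v
  rw [form_mk, Ne, toAdd_eq_zero] at hv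
  have hc : S.cOmega p x y ≠ 1 := fun e => hv (by rw [e, map_one])
  have horder : orderOf ((S.cOmega p x y : S.omega p) : A) = p :=
    orderOf_eq_prime (S.cOmega p x y).2 fun e => hc (Subtype.ext e)
  exact horder ▸ orderOf_dvd_natCard _

theorem exists_matching {g : G} (hg : g ∈ C)
    (h : ∀ y ∈ S.powSub p, g * y * g⁻¹ * y⁻¹ ∈ A) :
    ∃ f ∈ S.powSub p, ∀ y ∈ S.powSub p, f * y * f⁻¹ * y⁻¹ = g * y * g⁻¹ * y⁻¹ := by
  have hpow : ∀ y : S.powSub p, (⟨g * y * g⁻¹ * (y : G)⁻¹, h y y.2⟩ : A) ^ p = 1 := by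
    intro y
    refine Subtype.ext ?_
    show (g * y * g⁻¹ * (y : G)⁻¹) ^ p = 1
    have e : ∀ m : ℕ, g * (y : G) ^ m * g⁻¹ * ((y : G) ^ m)⁻¹ =
        (g * y * g⁻¹ * (y : G)⁻¹) ^ m := by
      intro m
      induction m with
      | zero => simp
      | succ m ih =>
        rw [pow_succ, comm_mul_right (y := (y : G) ^ m) rfl
          (S.central_fit (h y y.2) (pow_mem y.2.1 m)).symm, ih, pow_succ]
    rw [← e, ← S.central _ y.2.2 g hg, mul_inv_cancel_right, mul_inv_cancel]
  let δ : S.Wt p →* Multiplicative (ZMod p) := QuotientGroup.lift _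
    (MonoidHom.mk' (fun y => S.emb p ⟨⟨g * y * g⁻¹ * (y : G)⁻¹, h y y.2⟩, hpow y⟩)
      (fun y z => by
        rw [← map_mul]
        congr 1
        refine Subtype.ext (Subtype.ext ?_)
        show g * ((y : G) * z) * g⁻¹ * ((y : G) * z)⁻¹ = _
        exact comm_mul_right rfl (S.central_fit (h z z.2) y.2.1).symm))
    (fun y hy => MonoidHom.mem_ker.2 (by
      show S.emb p _ = 1
      rw [← map_one (S.emb p)]
      congr 1
      refine Subtype.ext (Subtype.ext ?_)
      show g * y * g⁻¹ * (y : G)⁻¹ = 1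
      rw [← S.central _ (Subgroup.mem_subgroupOf.1 hy) g hg, mul_inv_cancel_right, mul_inv_cancel]))
  let δl : Additive (S.Wt p) →ₗ[ZMod p] ZMod p := AddMonoidHom.toZModLinearMap p
    (AddMonoidHom.mk' (fun u => (δ u.toMul).toAdd) fun u v => by rw [toMul_add, map_mul, toAdd_mul])
  have hsurj : Function.Surjective (S.form p) := by
    refine (LinearMap.injective_iff_surjective_of_finrank_eq_finrank
      Subspace.dual_finrank_eq.symm).1 ?_
    rw [injective_iff_map_eq_zero]
    exact fun u hu => S.form_nondeg p u fun v => by rw [hu]; rfl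
  obtain ⟨u, hu⟩ := hsurj δl
  obtain ⟨x, rfl⟩ := S.exists_rep p u
  refine ⟨x, x.2, fun y hy => ?_⟩
  have hxy := LinearMap.congr_fun hu (Additive.ofMul ((⟨y, hy⟩ : S.powSub p) : S.Wt p))
  rw [form_mk] at hxy
  have hxy' := S.emb_injective p (Multiplicative.toAdd.injective hxy)
  exact congrArg (fun z : S.omega p => ((z : A) : G)) hxy'

end Setting

theorem Setting.mem_fit_of_trivial (S : Setting C A) {g : G} (hg : g ∈ C)
    (h : ∀ p : ℕ, p.Prime → ∀ y ∈ S.powSub p, g * y * g⁻¹ * y⁻¹ ∈ A) : g ∈ fitIn C := by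
  classical
  haveI := S.A_normal
  have key : ∀ s : Finset ℕ, (∀ q ∈ s, q.Prime) → ∃ f ∈ fitIn C,
      (∀ q ∈ s, ∀ y ∈ S.powSub q, f * y * f⁻¹ * y⁻¹ = g * y * g⁻¹ * y⁻¹) ∧
      (∀ q, q.Prime → q ∉ s → ∀ y ∈ S.powSub q, f * y * f⁻¹ * y⁻¹ = 1) := by
    intro s
    induction s using Finset.induction_on with
    | empty => exact fun _ => ⟨1, one_mem _, by simp, fun q _ _ y _ => by group⟩
    | insert a s has ih =>
      intro hs
      obtain ⟨f, hf, hf1, hf2⟩ := ih fun q hq => hs q (Finset.mem_insert_of_mem hq)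
      have ha := hs a (Finset.mem_insert_self a s)
      haveI := Fact.mk ha
      obtain ⟨x, hx, hxm⟩ := S.exists_matching a hg (h a ha)
      have hoff : ∀ q, q.Prime → q ≠ a → ∀ y ∈ S.powSub q, x * y * x⁻¹ * y⁻¹ = 1 := by
        intro q hq hqa y hy
        rw [← orderOf_eq_one_iff, ← Nat.dvd_one,
          ← ((Nat.coprime_primes ha hq).2 (Ne.symm hqa)).gcd_eq_one]
        refine Nat.dvd_gcd (orderOf_dvd_of_pow_eq_one ?_) (orderOf_dvd_of_pow_eq_one ?_)
        · rw [← S.comm_pow_left hx.1 hy.1, S.central_fit hx.2 hy.1, mul_inv_cancel_right,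
            mul_inv_cancel]
        · rw [← S.comm_pow_right hx.1 hy.1, ← S.central_fit hy.2 hx.1, mul_inv_cancel_right,
            mul_inv_cancel]
      refine ⟨f * x, mul_mem hf hx.1, fun q hq y hy => ?_, fun q hq hqs y hy => ?_⟩
      · rw [S.comm_left hf hx.1 hy.1]
        rcases Finset.mem_insert.1 hq with rfl | hq'
        · rw [hf2 q ha has y hy, one_mul, hxm y hy]
        · rw [hf1 q hq' y hy, hoff q (hs q hq) (fun e => has (e ▸ hq')) y hy, mul_one]
      · rw [Finset.mem_insert, not_or] at hqs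
        rw [S.comm_left hf hx.1 hy.1, hf2 q hq hqs.2 y hy, hoff q hq hqs.1 y hy, one_mul]
  obtain ⟨f, hf, hf1, -⟩ := key (A.relIndex (fitIn C)).primeFactors fun q hq =>
    Nat.prime_of_mem_primeFactors hq
  have hall : ∀ q, q.Prime → ∀ y ∈ S.powSub q, f * y * f⁻¹ * y⁻¹ = g * y * g⁻¹ * y⁻¹ := by
    intro q hq y hy
    by_cases hqs : q ∈ (A.relIndex (fitIn C)).primeFactors
    · exact hf1 q hqs y hy
    have hyA : y ∈ A := by
      haveI := Fact.mk hq
      have h1 : Nat.card (S.Wt q) = 1 := by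
        rw [S.card_wt q, Finsupp.notMem_support_iff.1 (by rwa [Nat.support_factorization]), pow_zero]
      haveI := (Nat.card_eq_one_iff_unique.1 h1).1
      exact Subgroup.mem_subgroupOf.1 ((QuotientGroup.eq_one_iff _).1
        (Subsingleton.elim ((⟨y, hy⟩ : S.powSub q) : S.Wt q) 1))
    rw [← S.central_fit hyA hf, ← S.central _ hyA g hg]
    group
  have hle : fitIn C ≤ centralizer {f⁻¹ * g} := by
    have hmem : ∀ y, g * y = f * y * (f⁻¹ * g) → y ∈ centralizer {f⁻¹ * g} := fun y hy =>
      mem_centralizer_singleton_iff.2 (by rw [mul_assoc f⁻¹, hy]; group)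
    refine S.fit_le_of_powSub_le _ (fun a ha => hmem a ?_) fun q hq y hy => hmem y ?_
    · rw [← S.central _ ha g hg, ← S.central_fit ha hf]
      group
    · have e := hall q hq y hy
      rw [mul_left_inj] at e
      calc g * y = (g * y * g⁻¹) * g := by group
        _ = (f * y * f⁻¹) * g := by rw [e]
        _ = f * y * (f⁻¹ * g) := by group
  have h1 : f⁻¹ * g ∈ fitIn C :=
    S.mem_fit_of_centralizes (mul_mem (inv_mem (fitIn_le C hf)) hg) fun y hy =>
      (mem_centralizer_singleton_iff.1 (hle hy)).symm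
  simpa using mul_mem hf h1

/-- The conclusion: `|F : A| = e²` and subgroups of `C / F` have at most `3^(e-1)` classes. -/
theorem Setting.core (S : Setting C A) [Group.IsSolvable G] (m : ℕ)
    (hcard : A.relIndex (fitIn C) ≤ m * m)
    (hyp : ∀ p k : ℕ, p.Prime → 1 ≤ k → p ^ k ≤ m → p ∣ Nat.card A → SympBound p k) :
    ∃ e, 1 ≤ e ∧ e ≤ m ∧ A.relIndex (fitIn C) = e * e ∧
      (∀ q : ℕ, q.Prime → q ∣ e → q ∣ Nat.card A) ∧
      ∀ hn : ((fitIn C).subgroupOf C).Normal,
        haveI := hn; CB (C ⧸ (fitIn C).subgroupOf C) (3 ^ (e - 1)) := by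
  classical
  haveI := S.A_normal
  set n := A.relIndex (fitIn C) with hn'
  have hn0 : n ≠ 0 := Subgroup.index_ne_zero_of_finite
  have heven : ∀ q ∈ n.primeFactors, ∃ k, n.factorization q = 2 * k := by
    intro q hq
    haveI := Fact.mk (Nat.prime_of_mem_primeFactors hq)
    haveI : FiniteDimensional (ZMod q) (Additive (S.Wt q)) := Module.Finite.of_finite
    obtain ⟨k, hk⟩ := even_finrank (S.form q) (S.form_alt q) (S.form_nondeg q)
    exact ⟨k, by rw [← S.finrank_wt q, hk]⟩
  choose! kk hkk using heven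
  set e := ∏ q ∈ n.primeFactors, q ^ kk q with he
  have hee : n = e * e := by
    rw [he, ← Finset.prod_mul_distrib]
    conv_lhs => rw [← Nat.factorization_prod_pow_eq_self hn0, Finsupp.prod, Nat.support_factorization]
    exact Finset.prod_congr rfl fun q hq => by rw [← pow_add, hkk q hq, two_mul]
  have hem : e ≤ m := Nat.mul_self_le_mul_self_iff.1 (hee ▸ hcard)
  have hepos : 1 ≤ e := Finset.one_le_prod' fun q hq =>
    Nat.one_le_pow _ _ (Nat.prime_of_mem_primeFactors hq).pos
  refine ⟨e, hepos, hem, hee, ?_, ?_⟩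
  · intro q hq hqe
    haveI := Fact.mk hq
    refine S.dvd_card_A q fun h0 => ?_
    have hqn : q ∣ n := hee ▸ dvd_mul_of_dvd_left hqe e
    have := Nat.Prime.factorization_pos_of_dvd hq hn0 hqn
    rw [hn'] at this
    omega
  intro hnC
  have hk1 : ∀ q ∈ n.primeFactors, 1 ≤ kk q := by
    intro q hq
    have := Nat.Prime.factorization_pos_of_dvd (Nat.prime_of_mem_primeFactors hq) hn0
      (Nat.dvd_of_mem_primeFactors hq)
    rw [hkk q hq] at this
    omega
  haveI hfact : ∀ q : n.primeFactors, Fact (q : ℕ).Prime := fun q =>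
    ⟨Nat.prime_of_mem_primeFactors q.2⟩
  let L : n.primeFactors → Type := fun q => (S.act (q : ℕ)).toHomUnits.range
  let ρ : ∀ q : n.primeFactors, (S.act (q : ℕ)).toHomUnits.range →*
      Module.End (ZMod q) (Additive (S.Wt q)) := fun q => (Units.coeHom _).comp (Subgroup.subtype _)
  have hb : ∀ q : n.primeFactors,
      CB (isoSub (S.form (q : ℕ)) (ρ q)) (3 ^ ((q : ℕ) ^ kk q - 1)) := by
    intro q
    have hle : (q : ℕ) ^ kk q ≤ m := le_trans
      (Finset.single_le_prod' (f := fun r => r ^ kk r)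
        (fun r hr => Nat.one_le_pow _ _ (Nat.prime_of_mem_primeFactors hr).pos) q.2) hem
    haveI : Finite (Module.End (ZMod q) (Additive (S.Wt q))) :=
      Finite.of_injective (fun f => (f : Additive (S.Wt q) → Additive (S.Wt q))) DFunLike.coe_injective
    have hdA : (q : ℕ) ∣ Nat.card A := S.dvd_card_A q fun h0 => by
      have h1 := hk1 q q.2
      have h2 : (A.relIndex (fitIn C)).factorization (q : ℕ) = 2 * kk (q : ℕ) := hkk q q.2
      omega
    refine hyp q (kk q) (hfact q).out (hk1 q q.2) hle hdA (Additive (S.Wt q))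
      ((S.act (q : ℕ)).toHomUnits.range) (S.form q) (ρ q) (S.form_alt q) (S.form_nondeg q) ?_ ?_ ?_
      ?_ ?_
    · rw [S.finrank_wt q]; exact hkk q q.2
    · exact Group.isSolvable_of_surjective (MonoidHom.rangeRestrict_surjective _)
    · exact fun a b h => Subtype.ext (Units.ext h)
    · rintro ⟨_, g, rfl⟩
      exact S.act_similitude q g
    · intro U hU
      exact S.act_invariant q U fun g u hu => hU ⟨_, g, rfl⟩ u hu
  haveI : ∀ q : n.primeFactors, Finite (isoSub (S.form (q : ℕ)) (ρ q)) := fun q =>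
    haveI : Finite (Module.End (ZMod q) (Additive (S.Wt q))) :=
      Finite.of_injective (fun f => (f : Additive (S.Wt q) → Additive (S.Wt q))) DFunLike.coe_injective
    inferInstance
  let f : ∀ q : n.primeFactors,
      C ⧸ (fitIn C).subgroupOf C →* isoSub (S.form (q : ℕ)) (ρ q) := fun q =>
    QuotientGroup.lift _
      ((((S.act (q : ℕ)).toHomUnits.rangeRestrict).comp C.subtype).codRestrict _
        fun g u v => S.act_isometry q g.2 u v)
      (fun g hg => MonoidHom.mem_ker.2 (Subtype.ext (Subtype.ext (Units.ext (LinearMap.ext fun u => by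
        obtain ⟨x, rfl⟩ := S.exists_rep q u
        show S.act q (g : G) (Additive.ofMul (x : S.Wt q)) = _
        rw [S.act_mk]
        refine congrArg Additive.ofMul (QuotientGroup.eq.2 (Subgroup.mem_subgroupOf.2 ?_))
        show ((g : G) * x * (g : G)⁻¹)⁻¹ * x ∈ A
        have h1 := S.comm_mem (Subgroup.mem_subgroupOf.1 hg) (inv_mem x.2.1)
        simpa [mul_assoc] using h1)))))
  have hfinal := cb_family (fun q : n.primeFactors => isoSub (S.form (q : ℕ)) (ρ q)) _ hb f (by
    intro w hw
    induction w using QuotientGroup.induction_on with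
    | H g =>
      refine (QuotientGroup.eq_one_iff _).2 (Subgroup.mem_subgroupOf.2
        (S.mem_fit_of_trivial g.2 fun q hq y hy => ?_))
      haveI := Fact.mk hq
      by_cases hqs : q ∈ n.primeFactors
      · have h1 : S.act q (g : G) = 1 :=
          congrArg (fun a => ((Subtype.val (Subtype.val a)) : Units _).val) (hw ⟨q, hqs⟩)
        have h2 := LinearMap.congr_fun h1 (Additive.ofMul ((⟨y, hy⟩ : S.powSub q) : S.Wt q))
        rw [S.act_mk, Module.End.one_apply] at h2
        have h3 := Subgroup.mem_subgroupOf.1 (QuotientGroup.eq.1 (Additive.ofMul.injective h2.symm))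
        have h4 := S.A_normal.conj_mem _ h3 y
        have e : y * (y⁻¹ * ((g : G) * y * (g : G)⁻¹)) * y⁻¹ = (g : G) * y * (g : G)⁻¹ * y⁻¹ := by
          group
        rw [← e]
        exact h4
      · have h1 : Nat.card (S.Wt q) = 1 := by
          rw [S.card_wt q, Finsupp.notMem_support_iff.1 (by rwa [Nat.support_factorization]), pow_zero]
        haveI := (Nat.card_eq_one_iff_unique.1 h1).1
        have hyA : y ∈ A := Subgroup.mem_subgroupOf.1 ((QuotientGroup.eq_one_iff _).1
          (Subsingleton.elim ((⟨y, hy⟩ : S.powSub q) : S.Wt q) 1))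
        exact mul_mem (S.A_normal.conj_mem y hyA _) (inv_mem hyA))
  refine hfinal.mono ?_
  rw [Finset.univ_eq_attach, Finset.prod_attach n.primeFactors (fun q => 3 ^ (q ^ kk q - 1)),
    Finset.prod_pow_eq_pow_sum]
  exact Nat.pow_le_pow_right (by norm_num) (prod_pow_le _ _ fun q hq =>
    Nat.one_le_pow _ _ (Nat.prime_of_mem_primeFactors hq).pos).1

end H33.SolvLin
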