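import Mathlib
import Cfsg.Agent.H33.SolvLin.Class
import Cfsg.Agent.H33.SolvLin.BlockTools
import Cfsg.Agent.H33.SolvLin.Core

/-!
# Irreducible solvable linear groups over the field with `p` elements
-/

set_option autoImplicit false

namespace H33.SolvLin

open Module

/-- Every irreducible solvable group of degree `a` over the field with `p` elements has class
bound `t`. -/
def IrrTB (p a t : ℕ) : Prop :=
  ∀ [Fact p.Prime] (W L : Type) [AddCommGroup W] [Module (ZMod p) W] [Finite W] [Group L] [Finite L]
    (ρ : L →* Module.End (ZMod p) W),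
    finrank (ZMod p) W = a → Group.IsSolvable L → Function.Injective ρ → Irr ρ → CB L t

variable {p : ℕ} [Fact p.Prime] {W L : Type} [AddCommGroup W] [Module (ZMod p) W] [Finite W]
  [Group L] [Finite L]

theorem irr_cases (ρ : L →* Module.End (ZMod p) W) [Nontrivial W] [Group.IsSolvable L]
    (hρ : Function.Injective ρ) (hirr : Irr ρ)
    (hyp : ∀ q k : ℕ, q.Prime → 1 ≤ k → q ^ k ≤ finrank (ZMod p) W → q ≠ p → SympBound q k) :
    (∃ a m, 1 ≤ a ∧ 2 ≤ m ∧ m * a = finrank (ZMod p) W ∧
      ∀ t, IrrTB p a t → CB L (t ^ m * m.factorial)) ∨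
    (∃ a e c, 1 ≤ a ∧ 1 ≤ e ∧ a ∣ finrank (ZMod p) W ∧ e * a ≤ finrank (ZMod p) W ∧
      c ∣ p ^ a - 1 ∧ (∀ q : ℕ, q.Prime → q ∣ e → q ∣ c) ∧
      (∃ (R : Subalgebra (ZMod p) (Module.End (ZMod p) W)) (x : L), IsField R ∧
        finrank (ZMod p) R = a ∧ ρ x ∈ R ∧ orderOf x = c) ∧
      CB L (c * (e * e) * 3 ^ (e - 1) * a)) := by
  classical
  let 𝒜 : Set (Subgroup L) := {N | N.Normal ∧ ∀ a ∈ N, ∀ b ∈ N, a * b = b * a}
  obtain ⟨A, -, hAmax⟩ := (Set.toFinite 𝒜).exists_le_maximal (a := (⊥ : Subgroup L))
    ⟨inferInstance, fun a ha b hb => by rw [Subgroup.mem_bot.1 ha, Subgroup.mem_bot.1 hb]⟩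
  obtain ⟨hAn, hAc⟩ := hAmax.1
  haveI := hAn
  rcases blocks_or_field ρ hirr A hAc with ⟨ι, hι, h2, ⟨b⟩⟩ | ⟨R, hR, hRA⟩
  · left
    obtain ⟨i₀⟩ : Nonempty ι := Fintype.card_pos_iff.1 (by omega)
    have hn : finrank (ZMod p) W = Fintype.card ι * finrank (ZMod p) (b.sub i₀) := by
      rw [b.finrank_sum, Finset.sum_congr rfl (fun i _ => b.finrank_eq hirr i i₀), Finset.sum_const,
        Finset.card_univ, smul_eq_mul]
    refine ⟨_, _, b.finrank_pos i₀, h2, hn.symm, fun t ht => ?_⟩
    refine cb_hom b.perm ?_ ?_
    · haveI : Finite (Module.End (ZMod p) W) :=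
        Finite.of_injective (fun f => (f : W → W)) DFunLike.coe_injective
      haveI hfin : ∀ i, Finite (Module.End (ZMod p) (b.sub i)) := fun i =>
        Finite.of_injective (fun f => (f : b.sub i → b.sub i)) DFunLike.coe_injective
      have hGi : ∀ i, CB (b.restr i).toHomUnits.range t := by
        intro i
        refine ht (b.sub i) _ ((Units.coeHom _).comp (Subgroup.subtype _)) ?_ ?_ ?_ ?_
        · exact b.finrank_eq hirr i i₀
        · haveI : Group.IsSolvable (b.stab i) := inferInstance
          exact Group.isSolvable_of_surjective (MonoidHom.rangeRestrict_surjective _)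
        · exact fun x y h => Subtype.ext (Units.ext h)
        · intro U hU
          exact b.irr_restr hirr i U fun g u hu => hU ⟨_, g, rfl⟩ u hu
      have := cb_family (fun i => (b.restr i).toHomUnits.range) (fun _ => t) hGi
        (fun i => ((b.restr i).toHomUnits.rangeRestrict).comp
          (Subgroup.inclusion fun g hg => b.mem_stab_of_ker hg i))
        (fun g hg => Subtype.ext (hρ (by
          rw [b.kerRestr_faithful g fun i => congrArg (fun u => ((Subtype.val u : Units _)).val) (hg i),
            Subgroup.coe_one, map_one])))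
      simpa [Finset.prod_const] using this
    · refine cb_of_card_le ((Subgroup.card_le_card_group _).trans ?_)
      rw [Nat.card_perm, Nat.card_eq_fintype_card]
  · right
    haveI : Finite (Module.End (ZMod p) W) :=
      Finite.of_injective (fun f => (f : W → W)) DFunLike.coe_injective
    letI : Field R := hR.toField
    haveI : Module.Finite (ZMod p) R := Module.Finite.of_finite
    haveI : Module.Finite R W := Module.Finite.of_finite
    have hmemR : ∀ a ∈ A, ρ a ∈ R := fun a ha => hRA ▸ Algebra.subset_adjoin ⟨a, ha, rfl⟩
    let C : Subgroup L := Subgroup.centralizer (A : Set L)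
    haveI hCn : C.Normal := Subgroup.normal_centralizer
    have hAC : A ≤ C := fun a ha => Subgroup.mem_centralizer_iff.2 fun b hb => (hAc a ha b hb).symm
    let f : A →* R :=
      { toFun := fun a => ⟨ρ a, hmemR a a.2⟩
        map_one' := Subtype.ext (map_one ρ)
        map_mul' := fun a b => Subtype.ext (map_mul ρ (a : L) (b : L)) }
    have hf : Function.Injective f := fun a b h => Subtype.ext (hρ (congrArg Subtype.val h))
    haveI hAcyc : IsCyclic A := isCyclic_of_injective_ringHom f hf
    have hS : Setting C A :=
      { C_normal := hCn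
        A_normal := hAn
        A_le := hAC
        central := fun a ha c hc => Subgroup.mem_centralizer_iff.1 hc a ha
        solv := inferInstance
        cyclic := hAcyc
        maximal := by
          intro N hN hNC hNc
          haveI := hN
          have hmem : N ⊔ A ∈ 𝒜 := by
            refine ⟨inferInstance, ?_⟩
            have hle : N ⊔ A ≤ Subgroup.centralizer ((N ⊔ A : Subgroup L) : Set L) := by
              have h1 : N ≤ Subgroup.centralizer (N : Set L) := fun x hx =>
                Subgroup.mem_centralizer_iff.2 fun y hy => (hNc x hx y hy).symm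
              have h2 : A ≤ Subgroup.centralizer (A : Set L) := hAC
              have hN' : N ≤ Subgroup.centralizer ((N ⊔ A : Subgroup L) : Set L) := by
                rw [Subgroup.le_centralizer_iff]
                exact sup_le h1 (Subgroup.le_centralizer_iff.1 hNC)
              have hA' : A ≤ Subgroup.centralizer ((N ⊔ A : Subgroup L) : Set L) := by
                rw [Subgroup.le_centralizer_iff]
                exact sup_le hNC h2
              exact sup_le hN' hA'
            exact fun a ha c hc => (Subgroup.mem_centralizer_iff.1 (hle ha) c hc).symm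
          exact le_sup_left.trans (hAmax.2 hmem le_sup_right) }
    -- `R`-linear action of `C`
    have hcommR : ∀ g ∈ C, ∀ r ∈ R, Commute (ρ g) r := by
      intro g hg r hr
      rw [hRA] at hr
      refine Algebra.commute_of_mem_adjoin_of_forall_mem_commute hr ?_
      rintro _ ⟨a, ha, rfl⟩
      show ρ g * ρ a = ρ a * ρ g
      rw [← map_mul, ← map_mul, Subgroup.mem_centralizer_iff.1 hg a ha]
    let φ : C →* Module.End R W :=
      { toFun := fun g =>
          { toFun := ρ g
            map_add' := map_add _
            map_smul' := fun r v => by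
              show ρ g ((r : Module.End (ZMod p) W) v) = (r : Module.End (ZMod p) W) (ρ g v)
              exact LinearMap.congr_fun (hcommR g g.2 r r.2) v }
        map_one' := LinearMap.ext fun v => LinearMap.congr_fun (map_one ρ) v
        map_mul' := fun g h => LinearMap.ext fun v => LinearMap.congr_fun (map_mul ρ (g : L) (h : L)) v }
    have hφ : Function.Injective φ := fun g h e =>
      Subtype.ext (hρ (LinearMap.ext fun v => (LinearMap.congr_fun e v : ρ (g : L) v = ρ (h : L) v)))
    set a := finrank (ZMod p) R with ha
    have hmul : a * finrank R W = finrank (ZMod p) W := Module.finrank_mul_finrank (ZMod p) R W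
    have ha1 : 1 ≤ a := Module.finrank_pos
    have hcA : Nat.card A ∣ p ^ a - 1 := by
      have hcardR : Nat.card R = p ^ a := by
        rw [Module.natCard_eq_pow_finrank (K := ZMod p) (V := R), Nat.card_zmod]
      let fu : A →* Rˣ := f.toHomUnits
      have hfu : Function.Injective fu := fun u v h => hf (congrArg Units.val h)
      have h := Subgroup.card_dvd_of_injective fu hfu
      rwa [Nat.card_units, hcardR] at h
    obtain ⟨e, he1, hem, hee, hdiv, hCF⟩ := hS.core (finrank R W)
      (hS.card_le_sq φ hφ fun x hx => ⟨⟨ρ x, hmemR x hx⟩, LinearMap.ext fun v => rfl⟩)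
      (fun q k hq hk hle hqA => hyp q k hq hk (hle.trans (by
        rw [← hmul]; exact Nat.le_mul_of_pos_left _ ha1)) (by
        rintro rfl
        have h1 : q ∣ q ^ a - 1 := hqA.trans hcA
        have h2 : q ∣ q ^ a := dvd_pow_self q (by omega)
        have h3 : 1 ≤ q ^ a := Nat.one_le_pow _ _ hq.pos
        have h4 : q ∣ 1 := by
          have := Nat.dvd_sub h2 h1
          rwa [show q ^ a - (q ^ a - 1) = 1 by omega] at this
        exact hq.not_dvd_one h4))
    obtain ⟨x, hx⟩ := IsCyclic.exists_generator (α := A)
    have hxord : orderOf (x : L) = Nat.card A := by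
      rw [Subgroup.orderOf_coe, orderOf_eq_card_of_forall_mem_zpowers hx]
    refine ⟨a, e, Nat.card A, ha1, he1, Dvd.intro _ hmul, ?_, ?_, hdiv,
      ⟨R, x, hR, ha.symm, hmemR x x.2, hxord⟩, ?_⟩
    · rw [← hmul, mul_comm a]
      exact Nat.mul_le_mul_right _ hem
    · exact hcA
    · haveI : (fitIn C).Normal := hS.fit_normal
      haveI hn : ((fitIn C).subgroupOf C).Normal := inferInstance
      refine cb_ext C ?_ ?_
      · refine cb_ext ((fitIn C).subgroupOf C) (cb_of_card_le (le_of_eq ?_)) (hCF hn)
        rw [Nat.card_congr (Subgroup.subgroupOfEquivOfLe (fitIn_le C)).toEquiv, ← hee,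
          ← Subgroup.card_mul_index (A.subgroupOf (fitIn C)),
          Nat.card_congr (Subgroup.subgroupOfEquivOfLe hS.A_le_fit).toEquiv]
        rfl
      · refine cb_of_card_le ?_
        -- conjugates of the generator are roots of its minimal polynomial
        set r : R := ⟨ρ x, hmemR x x.2⟩ with hr
        have hnm : ∀ g : L, g * x * g⁻¹ ∈ A := fun g => hAn.conj_mem x x.2 g
        have hroot : ∀ g : L, (⟨ρ (g * x * g⁻¹), hmemR _ (hnm g)⟩ : R) ∈
            (Polynomial.map (algebraMap (ZMod p) R) (minpoly (ZMod p) r)).roots.toFinset := by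
          intro g
          have hne : minpoly (ZMod p) r ≠ 0 := minpoly.ne_zero (IsIntegral.of_finite _ r)
          rw [Multiset.mem_toFinset, Polynomial.mem_roots'.trans (and_congr_right fun _ => Iff.rfl)]
          refine ⟨Polynomial.map_ne_zero hne, ?_⟩
          rw [Polynomial.IsRoot.def, ← Polynomial.eval₂_eq_eval_map, ← Polynomial.aeval_def]
          refine Subtype.ext ?_
          rw [Polynomial.aeval_subalgebra_coe, ZeroMemClass.coe_zero]
          have h0 : Polynomial.aeval (ρ x : Module.End (ZMod p) W) (minpoly (ZMod p) r) = 0 := by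
            have := congrArg Subtype.val (minpoly.aeval (ZMod p) r)
            rwa [Polynomial.aeval_subalgebra_coe, ZeroMemClass.coe_zero] at this
          have hpow : ∀ n : ℕ, (ρ (g * x * g⁻¹)) ^ n = ρ g * ρ x ^ n * ρ g⁻¹ := by
            intro n
            rw [← map_pow, conj_pow, map_mul, map_mul, map_pow]
          rw [Polynomial.aeval_eq_sum_range] at h0 ⊢
          calc ∑ i ∈ Finset.range ((minpoly (ZMod p) r).natDegree + 1),
                (minpoly (ZMod p) r).coeff i • ρ (g * x * g⁻¹) ^ i
              = ρ g * (∑ i ∈ Finset.range ((minpoly (ZMod p) r).natDegree + 1),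
                  (minpoly (ZMod p) r).coeff i • ρ x ^ i) * ρ g⁻¹ := by
                rw [Finset.mul_sum, Finset.sum_mul]
                refine Finset.sum_congr rfl fun i _ => ?_
                rw [hpow, mul_smul_comm, smul_mul_assoc]
            _ = 0 := by rw [h0, mul_zero, zero_mul]
        let κ : L ⧸ C → (Polynomial.map (algebraMap (ZMod p) R) (minpoly (ZMod p) r)).roots.toFinset :=
          fun q => ⟨_, hroot q.out⟩
        have hκ : Function.Injective κ := by
          intro q q' h
          have h1 : ρ (q.out * x * q.out⁻¹) = ρ (q'.out * x * q'.out⁻¹) :=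
            congrArg (fun z => ((Subtype.val z : R) : Module.End (ZMod p) W)) h
          have h2 := hρ h1
          rw [← QuotientGroup.out_eq' q, ← QuotientGroup.out_eq' q']
          refine QuotientGroup.eq.2 (Subgroup.mem_centralizer_iff.2 fun y hy => ?_)
          obtain ⟨j, hj⟩ := Subgroup.mem_zpowers_iff.1 (hx ⟨y, hy⟩)
          have hy' : y = (x : L) ^ j := by
            rw [← Subgroup.coe_zpow, hj]
          have hc : Commute (x : L) (q.out⁻¹ * q'.out) := by
            show (x : L) * (q.out⁻¹ * q'.out) = q.out⁻¹ * q'.out * x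
            calc (x : L) * (q.out⁻¹ * q'.out) = q.out⁻¹ * (q.out * x * q.out⁻¹) * q'.out := by group
              _ = q.out⁻¹ * (q'.out * x * q'.out⁻¹) * q'.out := by rw [h2]
              _ = q.out⁻¹ * q'.out * x := by group
          rw [hy']
          exact (hc.zpow_left j).eq
        refine (Nat.card_le_card_of_injective κ hκ).trans ?_
        rw [Nat.card_eq_fintype_card, Fintype.card_coe]
        refine (Multiset.toFinset_card_le _).trans ((Polynomial.card_roots' _).trans ?_)
        rw [Polynomial.natDegree_map]
        exact minpoly.natDegree_le r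

end H33.SolvLin
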