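import Mathlib
import Cfsg.Agent.H33.SolvLin.Class
import Cfsg.Agent.H33.SolvLin.Core
import Cfsg.Agent.H33.SolvLin.Blocks

/-!
# Linear groups of degree at most two, and the number of isometries
-/

set_option autoImplicit false

namespace H33.SolvLin

open Module

variable {p : ℕ} [hp : Fact p.Prime] {W L : Type} [AddCommGroup W] [Module (ZMod p) W] [Finite W]
  [Group L] [Finite L]

theorem natCard_ne_zero (h : finrank (ZMod p) W = 2) :
    Nat.card {w : W // w ≠ 0} = p ^ 2 - 1 := by
  classical
  haveI := Fintype.ofFinite W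
  rw [← h, Nat.card_eq_fintype_card, Fintype.card_subtype_compl, Fintype.card_subtype_eq,
    ← Nat.card_eq_fintype_card, Module.natCard_eq_pow_finrank (K := ZMod p), Nat.card_zmod]

/-- Subgroups of a group of degree two over the field with `p` elements have at most
`p² + p - 3` classes. -/
theorem gl2_cb (ρ : L →* Module.End (ZMod p) W) (hρ : Function.Injective ρ)
    (h : finrank (ZMod p) W = 2) : CB L (p ^ 2 + p - 3) := by
  classical
  haveI : FiniteDimensional (ZMod p) W := Module.Finite.of_finite
  have hp2 : 2 ≤ p := hp.out.two_le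
  intro X
  set S : Set L := {g | ∃ c : ZMod p, ρ g = c • (1 : Module.End (ZMod p) W)} with hS
  haveI : Nontrivial W := Module.nontrivial_of_finrank_pos (R := ZMod p) (by omega)
  obtain ⟨v₀, hv₀⟩ := exists_ne (0 : W)
  have hSc : S.ncard ≤ p - 1 := by
    have hne : ∀ g : L, ρ g v₀ ≠ 0 := fun g e => hv₀ (by
      rw [← rho_inv_apply ρ g v₀, e, map_zero])
    have hf : ∀ g : S, ∃ c : {c : ZMod p // c ≠ 0}, ρ g = (c : ZMod p) • (1 : Module.End (ZMod p) W) := by
      rintro ⟨g, c, hc⟩
      refine ⟨⟨c, fun e => hne g ?_⟩, hc⟩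
      rw [hc, e, zero_smul, LinearMap.zero_apply]
    choose f hf using hf
    rw [← Nat.card_coe_set_eq]
    refine (Nat.card_le_card_of_injective f fun g g' e => Subtype.ext (hρ ?_)).trans (le_of_eq ?_)
    · rw [hf g, hf g', e]
    · rw [Nat.card_eq_fintype_card, Fintype.card_subtype_compl, Fintype.card_subtype_eq, ZMod.card]
  have hc : ∀ x, x ∉ S → Nat.card (Subgroup.centralizer ({x} : Set L)) ≤ p ^ 2 - 1 := by
    intro x hx
    obtain ⟨v, hv⟩ : ∃ v, LinearIndependent (ZMod p) ![v, ρ x v] := by
      by_contra hcon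
      push Not at hcon
      exact hx (LinearMap.exists_eq_smul_id_of_forall_notLinearIndependent hcon)
    have hspan : Submodule.span (ZMod p) (Set.range ![v, ρ x v]) = ⊤ :=
      hv.span_eq_top_of_card_eq_finrank' (by simp [h])
    have hv0 : v ≠ 0 := hv.ne_zero 0
    rw [← natCard_ne_zero h]
    refine Nat.card_le_card_of_injective
      (fun y => (⟨ρ (y : L) v, fun e => hv0 (by rw [← rho_inv_apply ρ (y : L) v, e, map_zero])⟩ :
        {w : W // w ≠ 0})) ?_
    intro y y' e
    have e' : ρ (y : L) v = ρ (y' : L) v := congrArg Subtype.val e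
    refine Subtype.ext (hρ (LinearMap.ext_on_range hspan fun i => ?_))
    fin_cases i
    · simpa using e'
    · have h1 := Subgroup.mem_centralizer_singleton_iff.1 y.2
      have h2 := Subgroup.mem_centralizer_singleton_iff.1 y'.2
      show ρ (y : L) (ρ x v) = ρ (y' : L) (ρ x v)
      rw [← Module.End.mul_apply, ← Module.End.mul_apply, ← map_mul, ← map_mul, h1, h2, map_mul,
        map_mul, Module.End.mul_apply, Module.End.mul_apply, e']
  have hkey := k_mul_card_le S (p ^ 2 - 1) hc X
  rcases le_or_gt (Nat.card X) (p ^ 2 - 1) with hle | hlt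
  · refine le_trans (k_le_card.trans hle) ?_
    omega
  · have h1 : S.ncard * (Nat.card X - (p ^ 2 - 1)) < (p - 1) * Nat.card X := by
      have h2 : S.ncard * (Nat.card X - (p ^ 2 - 1)) ≤ (p - 1) * (Nat.card X - (p ^ 2 - 1)) :=
        Nat.mul_le_mul_right _ hSc
      have h3 : (p - 1) * (Nat.card X - (p ^ 2 - 1)) < (p - 1) * Nat.card X := by
        have : 4 ≤ p ^ 2 := Nat.pow_le_pow_left hp2 2
        exact Nat.mul_lt_mul_of_pos_left (by omega) (by omega)
      omega
    have h4 : Nat.card (ConjClasses X) * Nat.card X <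
        (p ^ 2 - 1 + (p - 1)) * Nat.card X := by
      rw [add_mul, mul_comm (p ^ 2 - 1)]
      omega
    have h5 := Nat.lt_of_mul_lt_mul_right h4
    have h6 : 4 ≤ p ^ 2 := Nat.pow_le_pow_left hp2 2
    omega

/-- A group of degree one over the field with `p` elements. -/
theorem gl1_cb (ρ : L →* Module.End (ZMod p) W) (hρ : Function.Injective ρ)
    (h : finrank (ZMod p) W = 1) : CB L (p - 1) := by
  classical
  haveI : Nontrivial W := Module.nontrivial_of_finrank_pos (R := ZMod p) (by omega)
  obtain ⟨v, hv⟩ := exists_ne (0 : W)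
  refine cb_of_card_le ?_
  refine le_trans (Nat.card_le_card_of_injective
    (fun g => (⟨ρ g v, fun e => hv (by rw [← rho_inv_apply ρ g v, e, map_zero])⟩ :
      {w : W // w ≠ 0})) ?_) (le_of_eq ?_)
  · intro g g' e
    refine hρ (LinearMap.ext fun w => ?_)
    obtain ⟨c, rfl⟩ := exists_smul_eq_of_finrank_eq_one h hv w
    have e' : ρ g v = ρ g' v := congrArg Subtype.val e
    rw [map_smul, map_smul, e']
  · haveI := Fintype.ofFinite W
    rw [Nat.card_eq_fintype_card, Fintype.card_subtype_compl, Fintype.card_subtype_eq,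
      ← Nat.card_eq_fintype_card, Module.natCard_eq_pow_finrank (K := ZMod p), Nat.card_zmod, h,
      pow_one]

/-- There are at most `p ^ (k (2k+1))` isometries of a `2k`-dimensional symplectic space. -/
theorem iso_card (B : LinearMap.BilinForm (ZMod p) W) (ρ : L →* Module.End (ZMod p) W)
    (hnd : ∀ u, (∀ v, B u v = 0) → u = 0) (hρ : Function.Injective ρ) {k : ℕ}
    (h : finrank (ZMod p) W = 2 * k) :
    Nat.card (isoSub B ρ) ≤ p ^ (k * (2 * k + 1)) := by
  classical
  haveI : FiniteDimensional (ZMod p) W := Module.Finite.of_finite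
  set b := Module.finBasisOfFinrankEq (ZMod p) W h with hb
  let T : ∀ n, n ≤ 2 * k → Type := fun n hn => {w : Fin n → W // LinearIndependent (ZMod p) w ∧
    ∀ i j, B (w i) (w j) = B (b (Fin.castLE hn i)) (b (Fin.castLE hn j))}
  have hmain : ∀ n, ∀ hn : n ≤ 2 * k,
      Nat.card (T n hn) ≤ p ^ (∑ i ∈ Finset.range n, (2 * k - i)) := by
    intro n
    induction n with
    | zero =>
      intro hn
      haveI : Subsingleton (T 0 hn) := ⟨fun x y => Subtype.ext (funext fun i => i.elim0)⟩
      rw [Finset.sum_range_zero, pow_zero]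
      exact Finite.card_le_one_iff_subsingleton.2 inferInstance
    | succ n ih =>
      intro hn
      have hn' : n ≤ 2 * k := by omega
      let q : T (n + 1) hn → T n hn' := fun w => ⟨fun i => w.1 i.castSucc,
        w.2.1.comp _ (Fin.castSucc_injective n), fun i j => w.2.2 i.castSucc j.castSucc⟩
      have hfib : ∀ z, Nat.card {w // q w = z} ≤ p ^ (2 * k - n) := by
        intro z
        let Φ : W →ₗ[ZMod p] (Fin n → ZMod p) := LinearMap.pi fun j => B (z.1 j)
        have hker : finrank (ZMod p) (LinearMap.ker Φ) = 2 * k - n := by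
          have hsurj : LinearMap.range Φ = ⊤ := by
            by_contra hne
            obtain ⟨f, hf, hfr⟩ := Submodule.exists_le_ker_of_lt_top _ (lt_top_iff_ne_top.2 hne)
            have hz : ∀ w, B (∑ j, f (Pi.single j 1) • z.1 j) w = 0 := by
              intro w
              have h1 : f (Φ w) = 0 := LinearMap.mem_ker.1 (hfr ⟨w, rfl⟩)
              rw [pi_eq_sum_univ (Φ w), map_sum] at h1
              rw [map_sum, LinearMap.sum_apply, ← h1]
              refine Finset.sum_congr rfl fun j _ => ?_
              rw [map_smul, LinearMap.smul_apply, map_smul, smul_eq_mul, smul_eq_mul, mul_comm]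
              congr 1
              congr 1
              funext i
              simp [Pi.single_apply, eq_comm]
            have h0 := Fintype.linearIndependent_iff.1 z.2.1 _ (hnd _ hz)
            refine hf ((Pi.basisFun (ZMod p) (Fin n)).ext fun j => ?_)
            simpa using h0 j
          have h1 := Φ.finrank_range_add_finrank_ker
          rw [hsurj, finrank_top, finrank_fin_fun, h] at h1
          omega
        rcases isEmpty_or_nonempty {w // q w = z} with he | ⟨⟨w₀, hw₀⟩⟩
        · simp
        have hcard : Nat.card (LinearMap.ker Φ) = p ^ (2 * k - n) := by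
          rw [Module.natCard_eq_pow_finrank (K := ZMod p), hker, Nat.card_zmod]
        rw [← hcard]
        have hmem : ∀ w : {w // q w = z}, w.1.1 (Fin.last n) - w₀.1 (Fin.last n) ∈ LinearMap.ker Φ := by
          intro w
          refine LinearMap.mem_ker.2 (funext fun j => ?_)
          show B (z.1 j) (w.1.1 (Fin.last n) - w₀.1 (Fin.last n)) = 0
          have ew : w.1.1 j.castSucc = z.1 j := congrArg (fun x => x.1 j) w.2
          have e₀ : w₀.1 j.castSucc = z.1 j := congrArg (fun x => x.1 j) hw₀
          rw [map_sub, sub_eq_zero]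
          calc B (z.1 j) (w.1.1 (Fin.last n)) = B (w.1.1 j.castSucc) (w.1.1 (Fin.last n)) := by
                rw [ew]
            _ = B (b (Fin.castLE hn j.castSucc)) (b (Fin.castLE hn (Fin.last n))) := w.1.2.2 _ _
            _ = B (w₀.1 j.castSucc) (w₀.1 (Fin.last n)) := (w₀.2.2 _ _).symm
            _ = B (z.1 j) (w₀.1 (Fin.last n)) := by rw [e₀]
        refine Nat.card_le_card_of_injective (fun w => (⟨_, hmem w⟩ : LinearMap.ker Φ)) ?_
        intro w w' e
        refine Subtype.ext (Subtype.ext (funext fun i => ?_))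
        induction i using Fin.lastCases with
        | last => exact sub_left_injective (congrArg Subtype.val e)
        | cast i => exact (congrArg (fun x => x.1 i) w.2).trans (congrArg (fun x => x.1 i) w'.2).symm
      haveI : Fintype (T n hn') := Fintype.ofFinite _
      rw [Finset.sum_range_succ, pow_add, ← Nat.card_congr (Equiv.sigmaFiberEquiv q), Nat.card_sigma]
      refine (Finset.sum_le_sum fun z _ => hfib z).trans ?_
      rw [Finset.sum_const, Finset.card_univ, smul_eq_mul, ← Nat.card_eq_fintype_card]
      exact Nat.mul_le_mul_right _ (ih hn')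
  have hexp : ∑ i ∈ Finset.range (2 * k), (2 * k - i) = k * (2 * k + 1) := by
    have h1 : ∀ m : ℕ, (∑ i ∈ Finset.range m, (m - i)) * 2 = m * (m + 1) := by
      intro m
      induction m with
      | zero => simp
      | succ m ih =>
        rw [Finset.sum_range_succ']
        simp only [Nat.reduceSubDiff, Nat.sub_zero]
        rw [add_mul, ih]
        ring
    have h2 := h1 (2 * k)
    have h3 : 2 * k * (2 * k + 1) = k * (2 * k + 1) * 2 := by ring
    omega
  rw [← hexp]
  refine le_trans (Nat.card_le_card_of_injective (fun g => (⟨fun i => ρ (g : L) (b i), ?_, ?_⟩ :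
    T (2 * k) le_rfl)) ?_) (hmain _ le_rfl)
  · exact b.linearIndependent.map' _ (LinearMap.ker_eq_bot_of_injective
      (Function.LeftInverse.injective (rho_inv_apply ρ (g : L))))
  · intro i j
    exact g.2 _ _
  · intro g g' e
    exact Subtype.ext (hρ (b.ext fun i => congrFun (congrArg Subtype.val e) i))

end H33.SolvLin
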