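import Mathlib
import Cfsg.Agent.H33.SolvLin.Arith
import Cfsg.Agent.H33.SolvLin.IrrBound
import Cfsg.Agent.H33.SolvLin.Small

/-!
# Subgroups of solvable symplectic groups have few classes
-/

set_option autoImplicit false

namespace H33.SolvLin

open Module

theorem symp_one {p : ℕ} (hp : p.Prime) (h : p = 2 ∨ p = 3 ∨ p = 5) : SympBound p 1 := by
  intro _ W L _ _ _ _ _ B ρ _ _ hdim _ hρ _ _
  refine CB.subgroup ?_ _
  refine (gl2_cb ρ hρ (by simpa using hdim)).mono ?_
  rcases h with rfl | rfl | rfl <;> norm_num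

theorem irrTB_one (p : ℕ) : IrrTB p 1 (p - 1) := by
  intro _ W L _ _ _ _ _ ρ hdim _ hρ _
  exact gl1_cb ρ hρ hdim

theorem irrTB_two (p : ℕ) : IrrTB p 2 (p ^ 2 + p - 3) := by
  intro _ W L _ _ _ _ _ ρ hdim _ hρ _
  exact gl2_cb ρ hρ hdim

/-- A bound in a given degree from the two cases of `irr_cases`. -/
theorem small_irr {p : ℕ} [Fact p.Prime] {W L : Type} [AddCommGroup W] [Module (ZMod p) W]
    [Finite W] [Group L] [Finite L] (ρ : L →* Module.End (ZMod p) W) [Nontrivial W]
    [Group.IsSolvable L] (hρ : Function.Injective ρ) (hirr : Irr ρ) (n T : ℕ)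
    (hn : finrank (ZMod p) W = n)
    (hyp : ∀ q k : ℕ, q.Prime → 1 ≤ k → q ^ k ≤ n → q ≠ p → SympBound q k)
    (hblocks : ∀ a m : ℕ, 1 ≤ a → 2 ≤ m → m * a = n → ∃ t, IrrTB p a t ∧ t ^ m * m.factorial ≤ T)
    (hfield : ∀ a e : ℕ, 1 ≤ a → 1 ≤ e → a ∣ n → e * a ≤ n → ¬ p ∣ e → (p ^ a - 1 = 1 → e = 1) →
      (p ^ a - 1) * (e * e) * 3 ^ (e - 1) * a ≤ T) : CB L T := by
  rcases irr_cases ρ hρ hirr (fun q k hq hk hle hne => hyp q k hq hk (hn ▸ hle) hne) with
    ⟨a, m, ha, hm, hma, hcb⟩ | ⟨a, e, c, ha, he, han, hea, hc, hpr, -, hcb⟩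
  · obtain ⟨t, ht, htT⟩ := hblocks a m ha hm (hn ▸ hma)
    exact (hcb t ht).mono htT
  · have hp : p.Prime := Fact.out
    have hpa : 2 ≤ p ^ a := le_trans hp.two_le (Nat.le_self_pow (by omega) p)
    have hnd : ¬ p ∣ e := fun h => by
      have h1 : p ∣ p ^ a - 1 := (hpr p hp h).trans hc
      have h2 := Nat.dvd_sub (dvd_pow_self p (show a ≠ 0 by omega)) h1
      rw [show p ^ a - (p ^ a - 1) = 1 by omega] at h2
      exact hp.not_dvd_one h2
    have he1 : p ^ a - 1 = 1 → e = 1 := by
      intro h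
      by_contra hne
      obtain ⟨q, hq, hqe⟩ := Nat.exists_prime_and_dvd hne
      exact hq.not_dvd_one (h ▸ (hpr q hq hqe).trans hc)
    refine hcb.mono (le_trans ?_ (hfield a e ha he (hn ▸ han) (hn ▸ hea) hnd he1))
    have := Nat.le_of_dvd (by omega) hc
    gcongr

theorem exists_dims {a m n : ℕ} (ha : 1 ≤ a) (hm : 2 ≤ m) (h : m * a = n) : a ≤ n ∧ m ≤ n ∧ a < n := by
  refine ⟨h ▸ Nat.le_mul_of_pos_left _ (by omega), h ▸ Nat.le_mul_of_pos_right _ ha, ?_⟩
  calc a < 2 * a := by omega
    _ ≤ n := h ▸ Nat.mul_le_mul_right a hm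

theorem hyp_small {q k : ℕ} (hq : q.Prime) (hk : 1 ≤ k) (hle : q ^ k ≤ 5) (hne : q ≠ 2) :
    SympBound q k := by
  have h2 := hq.two_le
  have hq5 : q ≤ 5 := le_trans (Nat.le_self_pow (by omega) q) hle
  have h4 : q ≠ 4 := fun h => by subst h; norm_num at hq
  have hk1 : k = 1 := by
    by_contra hne1
    have : q ^ 2 ≤ 5 := le_trans (Nat.pow_le_pow_right (by omega) (by omega)) hle
    have : 3 ^ 2 ≤ q ^ 2 := Nat.pow_le_pow_left (by omega) 2
    omega
  subst hk1
  exact @symp_one q hq (by omega)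

theorem irrTB_three : IrrTB 2 3 21 := by
  intro _ W L _ _ _ _ _ ρ hdim hsolv hρ hirr
  haveI : Nontrivial W := Module.nontrivial_of_finrank_pos (R := ZMod 2) (by omega)
  haveI := hsolv
  refine small_irr ρ hρ hirr 3 21 hdim (fun q k hq hk hle hne => hyp_small hq hk (by omega) hne)
    (fun a m ha hm h => ?_) (fun a e ha he han hea hnd he1 => ?_)
  · obtain ⟨-, -, ha3⟩ := exists_dims ha hm h
    interval_cases a <;> try omega
    obtain rfl : m = 3 := by omega
    exact ⟨_, irrTB_one 2, by decide⟩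
  · have ha3 : a ≤ 3 := Nat.le_of_dvd (by norm_num) han
    have he3 : e ≤ 3 := le_trans (Nat.le_mul_of_pos_right _ ha) hea
    interval_cases a <;> interval_cases e <;> norm_num at *

theorem irrTB_four : IrrTB 2 4 72 := by
  intro _ W L _ _ _ _ _ ρ hdim hsolv hρ hirr
  haveI : Nontrivial W := Module.nontrivial_of_finrank_pos (R := ZMod 2) (by omega)
  haveI := hsolv
  refine small_irr ρ hρ hirr 4 72 hdim (fun q k hq hk hle hne => hyp_small hq hk (by omega) hne)
    (fun a m ha hm h => ?_) (fun a e ha he han hea hnd he1 => ?_)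
  · obtain ⟨-, -, ha4⟩ := exists_dims ha hm h
    interval_cases a <;> try omega
    · obtain rfl : m = 4 := by omega
      exact ⟨_, irrTB_one 2, by decide⟩
    · obtain rfl : m = 2 := by omega
      exact ⟨_, irrTB_two 2, by decide⟩
  · have ha4 : a ≤ 4 := Nat.le_of_dvd (by norm_num) han
    have he4 : e ≤ 4 := le_trans (Nat.le_mul_of_pos_right _ ha) hea
    interval_cases a <;> interval_cases e <;> norm_num at *

theorem irrTB_five : IrrTB 2 5 155 := by
  intro _ W L _ _ _ _ _ ρ hdim hsolv hρ hirr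
  haveI : Nontrivial W := Module.nontrivial_of_finrank_pos (R := ZMod 2) (by omega)
  haveI := hsolv
  refine small_irr ρ hρ hirr 5 155 hdim (fun q k hq hk hle hne => hyp_small hq hk hle hne)
    (fun a m ha hm h => ?_) (fun a e ha he han hea hnd he1 => ?_)
  · obtain ⟨-, -, ha5⟩ := exists_dims ha hm h
    interval_cases a <;> try omega
    obtain rfl : m = 5 := by omega
    exact ⟨_, irrTB_one 2, by decide⟩
  · have ha5 : a ≤ 5 := Nat.le_of_dvd (by norm_num) han
    have he5 : e ≤ 5 := le_trans (Nat.le_mul_of_pos_right _ ha) hea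
    interval_cases a <;> interval_cases e <;> norm_num at *

theorem two_mul_le_pow {p : ℕ} (hp : 2 ≤ p) : ∀ {k : ℕ}, 1 ≤ k → 2 * k ≤ p ^ k := by
  intro k hk
  refine le_trans ?_ (Nat.pow_le_pow_left hp k)
  induction k, hk using Nat.le_induction with
  | base => norm_num
  | succ n hn ih => rw [pow_succ]; omega

section

variable {p : ℕ} [Fact p.Prime] {W L : Type} [AddCommGroup W] [Module (ZMod p) W] [Finite W]
  [Group L] [Finite L]

/-- The irreducible exceptional cases other than the four dimensional one over two elements. -/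
theorem irr_small_big (ρ : L →* Module.End (ZMod p) W) [Nontrivial W] [Group.IsSolvable L]
    (hρ : Function.Injective ρ) (hirr : Irr ρ) {k : ℕ} (hdim : finrank (ZMod p) W = 2 * k)
    (hyp : ∀ q j : ℕ, q.Prime → 1 ≤ j → q ^ j ≤ 2 * k → q ≠ p → SympBound q j)
    (hpk : (p = 2 ∧ (k = 3 ∨ k = 4 ∨ k = 5)) ∨ (p = 3 ∧ k = 2)) :
    CB L (3 ^ (p ^ k - 1)) := by
  refine small_irr ρ hρ hirr (2 * k) _ hdim hyp (fun a m ha hm h => ?_)
    (fun a e ha he han hea hnd he1 => ?_)
  · obtain ⟨-, hmk, hak⟩ := exists_dims ha hm h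
    have hdvd : a ∣ 2 * k := h ▸ Dvd.intro_left m rfl
    obtain rfl : m = 2 * k / a := (Nat.div_eq_of_eq_mul_left ha h.symm).symm
    rcases hpk with ⟨rfl, rfl | rfl | rfl⟩ | ⟨rfl, rfl⟩ <;>
      norm_num at hdvd hak hm ⊢ <;> interval_cases a <;> (try norm_num at hdvd ⊢)
    all_goals first
      | omega
      | exact ⟨_, irrTB_one _, by norm_num [Nat.factorial]⟩
      | exact ⟨_, irrTB_two _, by norm_num [Nat.factorial]⟩
      | exact ⟨_, irrTB_three, by norm_num [Nat.factorial]⟩
      | exact ⟨_, irrTB_four, by norm_num [Nat.factorial]⟩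
      | exact ⟨_, irrTB_five, by norm_num [Nat.factorial]⟩
  · rcases hpk with ⟨rfl, rfl | rfl | rfl⟩ | ⟨rfl, rfl⟩ <;>
      have hak := Nat.le_of_dvd (by norm_num) han <;>
      have hek := le_trans (Nat.le_mul_of_pos_right e ha) hea <;> norm_num at hak hek <;>
      interval_cases a <;> (try (norm_num at han; done)) <;> interval_cases e <;>
      first
        | (norm_num; done)
        | (norm_num at hea; done)
        | (norm_num at hnd; done)
        | (norm_num at he1; done)

end

theorem zmod_two_cases : ∀ c : ZMod 2, c = 0 ∨ c = 1 := by decide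

/-- An isometry in a field of degree four over two elements does not have order fifteen. -/
theorem order_ne_fifteen {W L : Type} [AddCommGroup W] [Module (ZMod 2) W] [Finite W]
    [Group L] (B : LinearMap.BilinForm (ZMod 2) W) (ρ : L →* Module.End (ZMod 2) W)
    (hnd : ∀ u, (∀ v, B u v = 0) → u = 0) (hiso : ∀ g u v, B (ρ g u) (ρ g v) = B u v)
    (hρ : Function.Injective ρ) (R : Subalgebra (ZMod 2) (Module.End (ZMod 2) W)) (x : L)
    (hR : IsField R) (hdim : finrank (ZMod 2) R = 4) (hx : ρ x ∈ R) : orderOf x ≠ 15 := by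
  classical
  intro hord
  haveI : Finite (Module.End (ZMod 2) W) :=
    Finite.of_injective (fun f => (f : W → W)) DFunLike.coe_injective
  letI : Field R := hR.toField
  haveI : Module.Finite (ZMod 2) R := Module.Finite.of_finite
  set r : R := ⟨ρ x, hx⟩ with hr
  have hrord : orderOf r = 15 := by
    rw [← hord, ← orderOf_injective ρ hρ x, ← orderOf_injective (R.val : R →* Module.End (ZMod 2) W) Subtype.val_injective r]
    rfl
  set f := minpoly (ZMod 2) r with hf
  have hf0 : f ≠ 0 := minpoly.ne_zero (IsIntegral.of_finite _ r)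
  have hdeg : f.natDegree ≤ 4 := hdim ▸ minpoly.natDegree_le r
  have h0 : Polynomial.aeval r f = 0 := minpoly.aeval _ r
  have hsq : ∀ y : R, Polynomial.aeval y f = 0 → Polynomial.aeval (y ^ 2) f = 0 := fun y hy => by
    rw [← Polynomial.expand_aeval, ZMod.expand_card, map_pow, hy, zero_pow two_ne_zero]
  have h14 : Polynomial.aeval (r ^ 14) f = 0 := by
    refine Subtype.ext ?_
    rw [Polynomial.aeval_subalgebra_coe, ZeroMemClass.coe_zero]
    have he : ((r ^ 14 : R) : Module.End (ZMod 2) W) = ρ x⁻¹ := by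
      show ρ x ^ 14 = _
      rw [← map_pow]
      congr 1
      refine eq_inv_of_mul_eq_one_left ?_
      rw [← pow_succ, show 14 + 1 = orderOf x by omega, pow_orderOf_eq_one]
    rw [he]
    have h0' : Polynomial.aeval (ρ x) f = 0 := by
      have h1 := congrArg Subtype.val h0
      rwa [Polynomial.aeval_subalgebra_coe, ZeroMemClass.coe_zero] at h1
    refine LinearMap.ext fun v => hnd _ fun u => ?_
    have hadj : ∀ (g : L) (w : W), B (ρ g⁻¹ v) w = B v (ρ g w) := by
      intro g w
      rw [← hiso g (ρ g⁻¹ v) w, rho_apply_inv]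
    have h2 : B v (Polynomial.aeval (ρ x) f u) = 0 := by
      rw [h0', LinearMap.zero_apply, map_zero]
    rw [Polynomial.aeval_eq_sum_range] at h2 ⊢
    simp only [LinearMap.sum_apply, LinearMap.smul_apply, map_sum, map_smul, ← map_pow] at h2 ⊢
    rw [← h2]
    refine Finset.sum_congr rfl fun i _ => ?_
    rw [inv_pow, hadj]
  have hmem : ∀ i ∈ ({1, 2, 4, 8, 14} : Finset ℕ), Polynomial.aeval (r ^ i) f = 0 := by
    intro i hi
    have e2 : Polynomial.aeval (r ^ 2) f = 0 := hsq r h0
    have e4 : Polynomial.aeval (r ^ 4) f = 0 := by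
      rw [show r ^ 4 = (r ^ 2) ^ 2 by rw [← pow_mul]]
      exact hsq _ e2
    have e8 : Polynomial.aeval (r ^ 8) f = 0 := by
      rw [show r ^ 8 = (r ^ 4) ^ 2 by rw [← pow_mul]]
      exact hsq _ e4
    simp only [Finset.mem_insert, Finset.mem_singleton] at hi
    rcases hi with rfl | rfl | rfl | rfl | rfl
    · rwa [pow_one]
    · exact e2
    · exact e4
    · exact e8
    · exact h14
  have hinj : Set.InjOn (fun i => r ^ i) (({1, 2, 4, 8, 14} : Finset ℕ) : Set ℕ) := by
    intro i hi j hj h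
    refine pow_injOn_Iio_orderOf ?_ ?_ h
    all_goals
      rw [Set.mem_Iio, hrord]
      simp only [Finset.coe_insert, Finset.coe_singleton, Set.mem_insert_iff,
        Set.mem_singleton_iff] at hi hj
      omega
  have hle := Polynomial.card_le_degree_of_subset_roots
    (p := f.map (algebraMap (ZMod 2) R)) (Z := ({1, 2, 4, 8, 14} : Finset ℕ).image (fun i => r ^ i))
    (fun y hy => by
      obtain ⟨i, hi, rfl⟩ := Finset.mem_image.1 (Finset.mem_def.2 hy)
      rw [Polynomial.mem_roots (Polynomial.map_ne_zero hf0), Polynomial.IsRoot.def,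
        Polynomial.eval_map, ← Polynomial.aeval_def]
      exact hmem i hi)
  rw [Finset.card_image_of_injOn hinj, Polynomial.natDegree_map] at hle
  norm_num at hle
  omega

/-- The four dimensional case over two elements. -/
theorem irr_two_two {W L : Type} [AddCommGroup W] [Module (ZMod 2) W] [Finite W] [Group L]
    [Finite L] (B : LinearMap.BilinForm (ZMod 2) W) (ρ : L →* Module.End (ZMod 2) W)
    [Nontrivial W] [Group.IsSolvable L] (hnd : ∀ u, (∀ v, B u v = 0) → u = 0)
    (hiso : ∀ g u v, B (ρ g u) (ρ g v) = B u v) (hρ : Function.Injective ρ) (hirr : Irr ρ)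
    (hdim : finrank (ZMod 2) W = 4) : CB L (3 ^ (2 ^ 2 - 1)) := by
  rcases irr_cases ρ hρ hirr (fun q k hq hk hle hne => hyp_small hq hk (by omega) hne) with
    ⟨a, m, ha, hm, hma, hcb⟩ | ⟨a, e, c, ha, he, han, hea, hc, hpr, ⟨R, x, hR, hRa, hxR, hxc⟩, hcb⟩
  · rw [hdim] at hma
    obtain ⟨-, -, ha4⟩ := exists_dims ha hm hma
    interval_cases a <;> try omega
    · obtain rfl : m = 4 := by omega
      exact (hcb _ (irrTB_one 2)).mono (by decide)
    · obtain rfl : m = 2 := by omega
      exact (hcb _ (irrTB_two 2)).mono (by decide)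
  · rw [hdim] at han hea
    have ha4 : a ≤ 4 := Nat.le_of_dvd (by norm_num) han
    refine hcb.mono ?_
    have he1 : e = 1 := by
      by_contra hne
      obtain ⟨q, hq, hqe⟩ := Nat.exists_prime_and_dvd hne
      have hqc := (hpr q hq hqe).trans hc
      have hqle : q ≤ e := Nat.le_of_dvd (by omega) hqe
      have hq2 := hq.two_le
      have hq4 : q ≤ 4 := hqle.trans ((Nat.le_mul_of_pos_right e ha).trans hea)
      interval_cases a
      all_goals first
        | omega
        | (norm_num at han; done)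
        | (interval_cases q <;> first | omega | (norm_num at hqc; done))
    subst he1
    have hne : a = 4 → c ≠ 15 := fun h4 =>
      hxc ▸ order_ne_fifteen B ρ hnd hiso hρ R x hR (h4 ▸ hRa) hxR
    interval_cases a
    all_goals
      first
        | (norm_num at han; done)
        | (have hcle := Nat.le_of_dvd (by norm_num) hc
           norm_num at hcle hc hne ⊢
           first | omega | (interval_cases c <;> omega))

section

variable {p : ℕ} [Fact p.Prime] {W L : Type} [AddCommGroup W] [Module (ZMod p) W] [Finite W]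
  [Group L] [Finite L]

/-- The representation on an invariant subspace. -/
def subRep (ρ : L →* Module.End (ZMod p) W) (U : Submodule (ZMod p) W)
    (hU : ∀ g, ∀ u ∈ U, ρ g u ∈ U) : L →* Module.End (ZMod p) U where
  toFun g := (ρ g).restrict (hU g)
  map_one' := LinearMap.ext fun u => Subtype.ext (by simp)
  map_mul' g h := LinearMap.ext fun u => Subtype.ext (by simp)

/-- The bound on an invariant subspace. -/
theorem sub_bound (B : LinearMap.BilinForm (ZMod p) W) (ρ : L →* Module.End (ZMod p) W)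
    (hA : B.IsAlt) (hsolv : Group.IsSolvable L)
    (hsim : ∀ g, ∃ c : ZMod p, ∀ u v, B (ρ g u) (ρ g v) = c * B u v)
    (hinv : ∀ U : Submodule (ZMod p) W, (∀ g, ∀ u ∈ U, ρ g u ∈ U) →
      ∀ u ∈ U, (∀ v ∈ U, B u v = 0) → u = 0)
    (U : Submodule (ZMod p) W) (hU : ∀ g, ∀ u ∈ U, ρ g u ∈ U) {j : ℕ}
    (hj : finrank (ZMod p) U = 2 * j) (hsb : SympBound p j) :
    ∃ (M : Type) (_ : Group M) (_ : Finite M) (f : isoSub B ρ →* M),
      CB M (3 ^ (p ^ j - 1)) ∧ ∀ g, f g = 1 → ∀ u ∈ U, ρ (g : L) u = u := by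
  haveI := hsolv
  haveI : Finite (Module.End (ZMod p) U) :=
    Finite.of_injective (fun f => (f : U → U)) DFunLike.coe_injective
  let σ : (subRep ρ U hU).toHomUnits.range →* Module.End (ZMod p) U :=
    (Units.coeHom _).comp (Subgroup.subtype _)
  have hcb : CB (isoSub (B.restrict U) σ) (3 ^ (p ^ j - 1)) := by
    refine hsb U _ (B.restrict U) σ (fun u => hA u) (fun u hu => Subtype.ext
      (hinv U hU u u.2 fun v hv => hu ⟨v, hv⟩)) hj
      (Group.isSolvable_of_surjective (MonoidHom.rangeRestrict_surjective _))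
      (fun a b h => Subtype.ext (Units.ext h)) ?_ ?_
    · rintro ⟨_, g, rfl⟩
      obtain ⟨c, hc⟩ := hsim g
      exact ⟨c, fun u v => hc u v⟩
    · intro U' hU' u hu hperp
      have hmap : ∀ g, ∀ w ∈ U'.map U.subtype, ρ g w ∈ U'.map U.subtype := by
        rintro g _ ⟨w, hw, rfl⟩
        exact ⟨σ ⟨_, g, rfl⟩ w, hU' _ w hw, rfl⟩
      refine Subtype.ext (hinv _ hmap u ⟨u, hu, rfl⟩ ?_)
      rintro _ ⟨v, hv, rfl⟩
      exact hperp v hv
  refine ⟨isoSub (B.restrict U) σ, inferInstance, inferInstance,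
    (((subRep ρ U hU).toHomUnits.rangeRestrict).comp (isoSub B ρ).subtype).codRestrict _
      (fun g u v => g.2 u v), hcb, fun g hg u hu => ?_⟩
  have h1 : subRep ρ U hU (g : L) = 1 :=
    congrArg (fun a => ((Subtype.val (Subtype.val a)) : Units _).val) hg
  exact congrArg Subtype.val (LinearMap.congr_fun h1 ⟨u, hu⟩)

theorem reducible_bound (B : LinearMap.BilinForm (ZMod p) W) (ρ : L →* Module.End (ZMod p) W)
    (hA : B.IsAlt) (hsolv : Group.IsSolvable L) (hρ : Function.Injective ρ)
    (hsim : ∀ g, ∃ c : ZMod p, ∀ u v, B (ρ g u) (ρ g v) = c * B u v)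
    (hinv : ∀ U : Submodule (ZMod p) W, (∀ g, ∀ u ∈ U, ρ g u ∈ U) →
      ∀ u ∈ U, (∀ v ∈ U, B u v = 0) → u = 0)
    {k : ℕ} (hdim : finrank (ZMod p) W = 2 * k) (hnirr : ¬ Irr ρ)
    (ih : ∀ j, 1 ≤ j → j < k → SympBound p j) : CB (isoSub B ρ) (3 ^ (p ^ k - 1)) := by
  haveI : FiniteDimensional (ZMod p) W := Module.Finite.of_finite
  simp only [Irr, not_forall, not_or] at hnirr
  obtain ⟨U, hU, hUb, hUt⟩ := hnirr
  have hndU : ∀ u : U, (∀ v : U, B.restrict U u v = 0) → u = 0 := fun u hu =>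
    Subtype.ext (hinv U hU u u.2 fun v hv => hu ⟨v, hv⟩)
  have hC : IsCompl U (B.orthogonal U) := by
    refine LinearMap.BilinForm.isCompl_orthogonal_of_restrict_nondegenerate hA.isRefl ⟨hndU, ?_⟩
    intro u hu
    exact hndU u fun v => hA.isRefl _ _ (hu v)
  have hU' : ∀ g, ∀ u ∈ B.orthogonal U, ρ g u ∈ B.orthogonal U := by
    intro g u hu n hn
    obtain ⟨c, hc⟩ := hsim g
    have h1 : B (ρ g⁻¹ n) u = 0 := hu _ (hU g⁻¹ n hn)
    show B n (ρ g u) = 0
    rw [← rho_apply_inv ρ g n, hc, h1, mul_zero]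
  obtain ⟨j, hj⟩ := even_finrank (B.restrict U) (fun u => hA u) hndU
  have hsum := Submodule.finrank_add_eq_of_isCompl hC
  rw [hdim, hj] at hsum
  have hj1 : 1 ≤ j := by
    rcases Nat.eq_zero_or_pos j with rfl | h
    · exact absurd (Submodule.finrank_eq_zero.1 (by simpa using hj)) hUb
    · exact h
  have hUb' : B.orthogonal U ≠ ⊥ := fun h => by
    have := hC.sup_eq_top
    rw [h, sup_bot_eq] at this
    exact hUt this
  have hj' : finrank (ZMod p) (B.orthogonal U) = 2 * (k - j) := by omega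
  have hjk : j < k := by
    rcases lt_or_ge j k with h | h
    · exact h
    · exact absurd (Submodule.finrank_eq_zero.1 (show finrank (ZMod p) (B.orthogonal U) = 0 by omega))
        hUb'
  obtain ⟨M₁, _, _, f₁, hM₁, hf₁⟩ := sub_bound B ρ hA hsolv hsim hinv U hU hj (ih j hj1 hjk)
  obtain ⟨M₂, _, _, f₂, hM₂, hf₂⟩ := sub_bound B ρ hA hsolv hsim hinv _ hU' hj'
    (ih (k - j) (by omega) (by omega))
  refine (cb_hom' f₁ (hM₂.of_injective (f₂.comp f₁.ker.subtype) ?_) hM₁).mono ?_
  · refine (injective_iff_map_eq_one _).2 fun g hg => Subtype.ext (Subtype.ext (hρ ?_))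
    rw [OneMemClass.coe_one, OneMemClass.coe_one, map_one]
    refine LinearMap.ext fun w => ?_
    have hw : w ∈ U ⊔ B.orthogonal U := hC.sup_eq_top ▸ Submodule.mem_top
    obtain ⟨u, hu, v, hv, rfl⟩ := Submodule.mem_sup.1 hw
    rw [map_add, hf₁ g.1 g.2 u hu, hf₂ g.1 hg v hv, Module.End.one_apply]
  · rw [← pow_add]
    refine Nat.pow_le_pow_right (by norm_num) ?_
    have hk : j + (k - j) = k := by omega
    obtain ⟨x, hx⟩ : ∃ x, p ^ j = x + 1 :=
      ⟨p ^ j - 1, by have := Nat.one_le_pow j p (Fact.out : p.Prime).pos; omega⟩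
    obtain ⟨y, hy⟩ : ∃ y, p ^ (k - j) = y + 1 :=
      ⟨p ^ (k - j) - 1, by have := Nat.one_le_pow (k - j) p (Fact.out : p.Prime).pos; omega⟩
    have hxy : p ^ k = x * y + x + y + 1 := by
      rw [← hk, pow_add, hx, hy]
      ring
    omega

end

/-- Subgroups of the isometries in a solvable group of similitudes of a `2k`-dimensional
symplectic space, without degenerate invariant subspaces, have at most `3^(p^k-1)` classes. -/
theorem symp_bound : ∀ (p k : ℕ), p.Prime → 1 ≤ k → SympBound p k := by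
  suffices h : ∀ N p k : ℕ, p ^ k = N → p.Prime → 1 ≤ k → SympBound p k from
    fun p k => h _ p k rfl
  intro N
  induction N using Nat.strong_induction_on with
  | _ N ih =>
  rintro p k rfl hp hk hF W L _ _ _ _ _ B ρ hA hnd hdim hsolv hρ hsim hinv
  by_cases hexc : (p = 2 → 6 ≤ k) ∧ (p = 3 → 3 ≤ k) ∧ (p = 5 → 2 ≤ k)
  · exact cb_of_card_le ((iso_card B ρ hnd hρ hdim).trans
      (symp_arith hp.two_le hp hk hexc.1 hexc.2.1 hexc.2.2))
  by_cases hk1 : k = 1
  · subst hk1
    exact @symp_one p hp (by omega) hF W L _ _ _ _ _ B ρ hA hnd hdim hsolv hρ hsim hinv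
  by_cases hirr : Irr ρ
  · haveI := hsolv
    haveI : Nontrivial W := Module.nontrivial_of_finrank_pos (R := ZMod p) (by omega)
    by_cases h22 : p = 2 ∧ k = 2
    · obtain ⟨rfl, rfl⟩ := h22
      refine CB.subgroup (irr_two_two B ρ hnd (fun g u v => ?_) hρ hirr hdim) _
      obtain ⟨c, hc⟩ := hsim g
      rcases zmod_two_cases c with rfl | rfl
      · exfalso
        obtain ⟨w, hw⟩ := exists_ne (0 : W)
        refine hw (hnd w fun z => ?_)
        rw [← rho_apply_inv ρ g w, ← rho_apply_inv ρ g z, hc, zero_mul]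
      · rw [hc, one_mul]
    · refine CB.subgroup (irr_small_big ρ hρ hirr hdim (fun q j hq hj hle hne => ?_) (by omega)) _
      refine ih _ ?_ q j rfl hq hj
      refine lt_of_le_of_ne (hle.trans (two_mul_le_pow hp.two_le hk)) fun h => hne ?_
      exact (Nat.prime_dvd_prime_iff_eq hq hp).1
        (hq.dvd_of_dvd_pow (h ▸ dvd_pow_self q (by omega)))
  · exact reducible_bound B ρ hA hsolv hρ hsim hinv hdim hirr fun j hj hjk =>
      ih _ (Nat.pow_lt_pow_right hp.one_lt hjk) p j rfl hp hj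

end H33.SolvLin
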