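import Mathlib
import Cfsg.Agent.H1.Fitting
import Cfsg.Agent.H33.SolvLin.Perm
import Cfsg.Agent.H33.SolvLin.Symp

/-!
# Solvable complex linear groups modulo their Fitting subgroup
-/

set_option autoImplicit false

namespace H33.SolvLin

open Module Subgroup

attribute [local instance] H1.fittingSubgroup_normal

/-- The quotient by the Fitting subgroup. -/
abbrev qF (G : Type) [Group G] : Type := G ⧸ Cfsg.fittingSubgroup G

/-- An invariant subspace has an invariant complement, as a block decomposition. -/
theorem exists_two_blocks {V G : Type} [AddCommGroup V] [Module ℂ V] [Group G] [Finite G]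
    (ρ : G →* Module.End ℂ V) (U : Submodule ℂ V) (hU : ∀ g, ∀ u ∈ U, ρ g u ∈ U) (hb : U ≠ ⊥)
    (ht : U ≠ ⊤) : Nonempty (Blocks ρ Bool) := by
  classical
  haveI := Fintype.ofFinite G
  obtain ⟨π, hπ⟩ := LinearMap.exists_leftInverse_of_injective U.subtype U.ker_subtype
  set P : Module.End ℂ V :=
    ((Fintype.card G : ℂ))⁻¹ • ∑ g : G, ρ g * (U.subtype ∘ₗ π) * ρ g⁻¹ with hP
  have hmem : ∀ v, P v ∈ U := by
    intro v
    rw [hP, LinearMap.smul_apply, LinearMap.sum_apply]
    exact U.smul_mem _ (U.sum_mem fun g _ => hU g _ (π _).2)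
  have hfix : ∀ u ∈ U, P u = u := by
    intro u hu
    rw [hP, LinearMap.smul_apply, LinearMap.sum_apply]
    have h1 : ∀ g : G, (ρ g * (U.subtype ∘ₗ π) * ρ g⁻¹) u = u := by
      intro g
      have h2 := LinearMap.congr_fun hπ ⟨ρ g⁻¹ u, hU g⁻¹ u hu⟩
      show ρ g (U.subtype (π (ρ g⁻¹ u))) = u
      rw [show π (ρ g⁻¹ u) = ⟨ρ g⁻¹ u, hU g⁻¹ u hu⟩ from h2]
      exact rho_apply_inv ρ g u
    rw [Finset.sum_congr rfl fun g _ => h1 g, Finset.sum_const, Finset.card_univ,
      ← Nat.cast_smul_eq_nsmul ℂ, smul_smul, inv_mul_cancel₀ (by simp [Fintype.card_ne_zero]),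
      one_smul]
  have hcomm : ∀ h : G, P * ρ h = ρ h * P := by
    intro h
    rw [hP, smul_mul_assoc, mul_smul_comm, Finset.sum_mul, Finset.mul_sum]
    congr 1
    refine (Fintype.sum_equiv (Equiv.mulLeft h) _ _ fun g => ?_).symm
    simp only [Equiv.coe_mulLeft, mul_inv_rev, map_mul, mul_assoc, rho_inv_left, mul_one]
  refine ⟨{
    sub := fun i => cond i U (LinearMap.ker P)
    perm := 1
    proj := fun i => cond i P (1 - P)
    ne_bot := ?_
    maps := ?_
    proj_mem := ?_
    proj_self := ?_
    proj_other := ?_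
    sum_proj := ?_ }⟩
  · rintro (_ | _)
    · intro h
      refine ht ((Submodule.eq_top_iff').2 fun v => ?_)
      have h1 : v - P v ∈ LinearMap.ker P := by
        rw [LinearMap.mem_ker, map_sub, hfix _ (hmem v), sub_self]
      rw [show LinearMap.ker P = ⊥ from h, Submodule.mem_bot, sub_eq_zero] at h1
      exact h1 ▸ hmem v
    · exact hb
  · rintro g (_ | _) v hv
    · show P (ρ g v) = 0
      rw [← Module.End.mul_apply, hcomm, Module.End.mul_apply, LinearMap.mem_ker.1 hv, map_zero]
    · exact hU g v hv
  · rintro (_ | _) v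
    · show P ((1 - P) v) = 0
      rw [LinearMap.sub_apply, Module.End.one_apply, map_sub, hfix _ (hmem v), sub_self]
    · exact hmem v
  · rintro (_ | _) v hv
    · show v - P v = v
      rw [LinearMap.mem_ker.1 hv, sub_zero]
    · exact hfix v hv
  · rintro (_ | _) (_ | _) hij v hv
    · exact absurd rfl hij
    · exact LinearMap.mem_ker.1 hv
    · show v - P v = 0
      rw [hfix v hv, sub_self]
    · exact absurd rfl hij
  · intro v
    rw [Fintype.sum_bool]
    show P v + (v - P v) = v
    rw [add_sub_cancel]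

/-- The step for groups with a block decomposition. -/
theorem blocks_bound {V G : Type} [AddCommGroup V] [Module ℂ V] [FiniteDimensional ℂ V] [Group G]
    [Finite G] [Group.IsSolvable G] {ρ : G →* Module.End ℂ V} (hρ : Function.Injective ρ)
    {ι : Type} [Fintype ι] (b : Blocks ρ ι) (h2 : 2 ≤ Fintype.card ι)
    (ih : ∀ (W L : Type) [AddCommGroup W] [Module ℂ W] [FiniteDimensional ℂ W] [Group L] [Finite L]
      (σ : L →* Module.End ℂ W), finrank ℂ W < finrank ℂ V → Function.Injective σ →
      Group.IsSolvable L → CB (qF L) (3 ^ (finrank ℂ W - 1))) :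
    CB (qF G) (3 ^ (finrank ℂ V - 1)) := by
  classical
  set K : Subgroup G := b.perm.ker with hK
  set M : ι → Type := fun i => (b.kerRestr i).toHomUnits.range with hM
  let g : ∀ i, K →* (b.kerRestr i).toHomUnits.range := fun i => (b.kerRestr i).toHomUnits.rangeRestrict
  haveI hfinR : ∀ i, Finite (b.kerRestr i).toHomUnits.range := fun i =>
    Finite.of_surjective _ (b.kerRestr i).toHomUnits.rangeRestrict_surjective
  have hsolvR : ∀ i, Group.IsSolvable (b.kerRestr i).toHomUnits.range := fun i =>
    Group.isSolvable_of_surjective (b.kerRestr i).toHomUnits.rangeRestrict_surjective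
  have hlt : ∀ i, finrank ℂ (b.sub i) < finrank ℂ V := by
    intro i
    have hsum := b.finrank_sum
    rw [← Finset.add_sum_erase _ _ (Finset.mem_univ i)] at hsum
    have hne : (Finset.univ.erase i).Nonempty := by
      rw [← Finset.card_pos, Finset.card_erase_of_mem (Finset.mem_univ i), Finset.card_univ]
      omega
    have : 0 < ∑ j ∈ Finset.univ.erase i, finrank ℂ (b.sub j) :=
      Finset.sum_pos (fun j _ => b.finrank_pos j) hne
    omega
  have hi : ∀ i, CB (qF (b.kerRestr i).toHomUnits.range) (3 ^ (finrank ℂ (b.sub i) - 1)) := fun i =>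
    ih (b.sub i) _ ((Units.coeHom _).comp (Subgroup.subtype _)) (hlt i)
      (fun x y h => Subtype.ext (Units.ext h)) (hsolvR i)
  let h : K →* ((i : ι) → qF (b.kerRestr i).toHomUnits.range) :=
    MonoidHom.pi fun i => (QuotientGroup.mk' _).comp (g i)
  have hnil : Group.IsNilpotent h.ker := by
    haveI : ∀ i, Group.IsNilpotent (Cfsg.fittingSubgroup (b.kerRestr i).toHomUnits.range) :=
      fun i => H1.isNilpotent_fittingSubgroup _
    let j : h.ker →* ((i : ι) → Cfsg.fittingSubgroup (b.kerRestr i).toHomUnits.range) :=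
      MonoidHom.pi fun i => ((g i).comp h.ker.subtype).codRestrict _ fun x =>
        (QuotientGroup.eq_one_iff _).1 (congrFun (MonoidHom.mem_ker.1 x.2) i)
    have hj : Function.Injective j := by
      refine (injective_iff_map_eq_one _).2 fun x hx => Subtype.ext (Subtype.ext (hρ ?_))
      rw [OneMemClass.coe_one, OneMemClass.coe_one, map_one]
      refine b.kerRestr_faithful x.1 fun i => ?_
      exact congrArg (fun z => ((Subtype.val (Subtype.val z)) : Units _).val) (congrFun hx i)
    exact (Group.isNilpotent_congr (MonoidHom.ofInjective hj)).2 inferInstance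
  have hker : h.ker.map K.subtype ≤ Cfsg.fittingSubgroup G := by
    refine le_trans (Subgroup.map_mono (H1.le_fittingSubgroup hnil)) ?_
    rw [H1.fittingSubgroup_subgroup_map_eq K]
    exact inf_le_left
  set F := Cfsg.fittingSubgroup G with hF
  set f : K →* qF G := (QuotientGroup.mk' F).comp K.subtype with hf
  haveI : f.range.Normal := by
    have : f.range = K.map (QuotientGroup.mk' F) := by
      rw [hf, MonoidHom.range_comp, Subgroup.range_subtype]
    rw [this]
    exact Subgroup.Normal.map inferInstance _ (QuotientGroup.mk'_surjective F)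
  have h1 : CB f.range (∏ i, 3 ^ (finrank ℂ (b.sub i) - 1)) := by
    haveI : h.ker.Normal := inferInstance
    have hcb : CB (K ⧸ h.ker) (∏ i, 3 ^ (finrank ℂ (b.sub i) - 1)) :=
      cb_family _ _ hi (fun i => (Pi.evalMonoidHom _ i).comp (QuotientGroup.kerLift h)) fun x hx =>
        QuotientGroup.kerLift_injective h (by rw [map_one]; exact funext hx)
    refine hcb.of_surjective (QuotientGroup.lift h.ker f.rangeRestrict fun x hx => ?_) ?_
    · refine MonoidHom.mem_ker.2 (Subtype.ext ?_)
      exact (QuotientGroup.eq_one_iff _).2 (hker ⟨x, hx, rfl⟩)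
    · exact QuotientGroup.lift_surjective_of_surjective _ _ f.rangeRestrict_surjective _
  have h2' : CB (qF G ⧸ f.range) (3 ^ (Fintype.card ι - 1)) := by
    haveI : Group.IsSolvable b.perm.range := isSolvable_range _
    have hp := perm_cb b.perm.range inferInstance
    have hq : CB (G ⧸ b.perm.ker) (3 ^ (Fintype.card ι - 1)) :=
      hp.of_injective (QuotientGroup.quotientKerEquivRange b.perm).toMonoidHom
        (MulEquiv.injective _)
    refine hq.of_surjective (QuotientGroup.lift _ ((QuotientGroup.mk' f.range).comp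
      (QuotientGroup.mk' F)) fun x hx => ?_) ?_
    · exact MonoidHom.mem_ker.2 ((QuotientGroup.eq_one_iff _).2 ⟨⟨x, hx⟩, rfl⟩)
    · refine QuotientGroup.lift_surjective_of_surjective _ _ ?_ _
      rw [MonoidHom.coe_comp]
      exact (QuotientGroup.mk'_surjective f.range).comp (QuotientGroup.mk'_surjective F)
  refine (cb_ext f.range h1 h2').mono ?_
  rw [Finset.prod_pow_eq_pow_sum, ← pow_add]
  refine Nat.pow_le_pow_right (by norm_num) ?_
  have hsum : ∑ i, (finrank ℂ (b.sub i) - 1) + Fintype.card ι = finrank ℂ V := by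
    rw [b.finrank_sum, ← Finset.card_univ, Finset.card_eq_sum_ones, ← Finset.sum_add_distrib]
    exact Finset.sum_congr rfl fun i _ => Nat.sub_add_cancel (b.finrank_pos i)
  omega

/-- The primitive step. -/
theorem primitive_bound {V G : Type} [AddCommGroup V] [Module ℂ V] [FiniteDimensional ℂ V]
    [Nontrivial V] [Group G] [Finite G] [Group.IsSolvable G] {ρ : G →* Module.End ℂ V}
    (hρ : Function.Injective ρ)
    (hscal : ∀ N : Subgroup G, N.Normal → (∀ a ∈ N, ∀ c ∈ N, a * c = c * a) →
      ∀ a ∈ N, ∃ c : ℂ, ρ a = c • (1 : Module.End ℂ V)) :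
    CB (qF G) (3 ^ (finrank ℂ V - 1)) := by
  classical
  have hA : ∀ a ∈ center G, ∃ c : ℂ, ρ a = c • (1 : Module.End ℂ V) :=
    hscal _ inferInstance fun a _ c hc => Subgroup.mem_center_iff.1 hc a
  choose s hs using hA
  have hsinj : ∀ c d : ℂ, c • (1 : Module.End ℂ V) = d • (1 : Module.End ℂ V) → c = d := by
    intro c d h
    obtain ⟨v, hv⟩ := exists_ne (0 : V)
    have := LinearMap.congr_fun h v
    simp only [LinearMap.smul_apply, Module.End.one_apply] at this
    exact smul_left_injective ℂ hv this
  let f : center G →* ℂ :=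
    { toFun := fun a => s a a.2
      map_one' := hsinj _ _ (by rw [← hs, one_smul, OneMemClass.coe_one, map_one])
      map_mul' := fun a c => hsinj _ _ (by
        rw [← hs, Subgroup.coe_mul, map_mul, hs a a.2, hs c c.2, smul_mul_assoc, one_mul,
          smul_smul]) }
  have hf : Function.Injective f := fun a c h => Subtype.ext (hρ (by
    rw [hs a a.2, hs c c.2]; exact congrArg (· • (1 : Module.End ℂ V)) h))
  haveI : IsCyclic (center G) := isCyclic_of_injective_ringHom f hf
  have hS : Setting (⊤ : Subgroup G) (center G) :=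
    { C_normal := inferInstance
      A_normal := inferInstance
      A_le := le_top
      central := fun a ha c _ => (Subgroup.mem_center_iff.1 ha c).symm
      solv := isSolvable_subgroup _
      cyclic := inferInstance
      maximal := fun N hN _ hNc a ha => by
        obtain ⟨c, hc⟩ := hscal N hN hNc a ha
        refine Subgroup.mem_center_iff.2 fun x => hρ ?_
        rw [map_mul, map_mul, hc, smul_mul_assoc, mul_smul_comm, one_mul, mul_one] }
  obtain ⟨e, he1, hem, -, -, hCF⟩ := hS.core (finrank ℂ V)
    (hS.card_le_sq (ρ.comp (⊤ : Subgroup G).subtype) (hρ.comp Subtype.val_injective)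
      fun a ha => ⟨s a ha, hs a ha⟩)
    fun p k hp hk _ _ => symp_bound p k hp hk
  haveI hn : ((fitIn (⊤ : Subgroup G)).subgroupOf ⊤).Normal := by
    haveI := hS.fit_normal
    infer_instance
  refine ((hCF hn).mono (Nat.pow_le_pow_right (by norm_num) (by omega : e - 1 ≤ finrank ℂ V - 1))
    ).of_surjective (QuotientGroup.lift _ ((QuotientGroup.mk' _).comp (⊤ : Subgroup G).subtype)
      fun x hx => ?_) ?_
  · refine MonoidHom.mem_ker.2 ((QuotientGroup.eq_one_iff _).2 ?_)
    have h1 : fitIn (⊤ : Subgroup G) ≤ Cfsg.fittingSubgroup G := by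
      rw [fitIn, H1.fittingSubgroup_subgroup_map_eq]
      exact inf_le_left
    exact h1 (Subgroup.mem_subgroupOf.1 hx)
  · refine QuotientGroup.lift_surjective_of_surjective _ _ ?_ _
    intro x
    induction x using QuotientGroup.induction_on with
    | H g => exact ⟨⟨g, mem_top g⟩, rfl⟩

/-- A finite solvable group with a faithful representation of degree `r` over the complex
numbers has at most `3^(r-1)` classes in every subgroup of its quotient by the Fitting
subgroup. -/
theorem complex_bound : ∀ (r : ℕ) (V G : Type) [AddCommGroup V] [Module ℂ V]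
    [FiniteDimensional ℂ V] [Group G] [Finite G] (ρ : G →* Module.End ℂ V),
    finrank ℂ V = r → Function.Injective ρ → Group.IsSolvable G → CB (qF G) (3 ^ (r - 1)) := by
  intro r
  induction r using Nat.strong_induction_on with
  | _ r ih =>
  intro V G _ _ _ _ _ ρ hr hρ hsolv
  classical
  haveI := hsolv
  rcases subsingleton_or_nontrivial V with hV | hV
  · haveI : Subsingleton G := ⟨fun a c => hρ (LinearMap.ext fun v => Subsingleton.elim _ _)⟩
    haveI : Subsingleton (qF G) := (QuotientGroup.mk'_surjective _).subsingleton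
    exact cb_one_of_subsingleton.mono (Nat.one_le_pow _ _ (by norm_num))
  subst hr
  have ih' : ∀ (W L : Type) [AddCommGroup W] [Module ℂ W] [FiniteDimensional ℂ W] [Group L]
      [Finite L] (σ : L →* Module.End ℂ W), finrank ℂ W < finrank ℂ V → Function.Injective σ →
      Group.IsSolvable L → CB (qF L) (3 ^ (finrank ℂ W - 1)) :=
    fun W L _ _ _ _ _ σ hlt hσ hL => ih _ hlt W L σ rfl hσ hL
  by_cases hirr : Irr ρ
  · by_cases hblk : ∃ (ι : Type) (_ : Fintype ι), 2 ≤ Fintype.card ι ∧ Nonempty (Blocks ρ ι)
    · obtain ⟨ι, _, h2, ⟨b⟩⟩ := hblk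
      exact blocks_bound hρ b h2 ih'
    · refine primitive_bound hρ fun N hN hNc a ha => ?_
      haveI := hN
      obtain ⟨R, hR, hRA⟩ := (blocks_or_field ρ hirr N hNc).resolve_left hblk
      haveI : Module.Finite ℂ R := Module.Finite.of_injective R.val.toLinearMap Subtype.val_injective
      letI : Field R := hR.toField
      obtain ⟨c, hc⟩ := (IsAlgClosed.algebraMap_bijective_of_isIntegral (k := ℂ) (K := R)).2
        ⟨ρ a, hRA ▸ Algebra.subset_adjoin ⟨a, ha, rfl⟩⟩
      exact ⟨c, ((congrArg Subtype.val hc).symm).trans (Algebra.algebraMap_eq_smul_one c)⟩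
  · simp only [Irr, not_forall, not_or] at hirr
    obtain ⟨U, hU, hb, ht⟩ := hirr
    obtain ⟨b⟩ := exists_two_blocks ρ U hU hb ht
    exact blocks_bound hρ b (by simp) ih'

end H33.SolvLin
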